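import Groth.Agent.Lib.GrpSchField.HeightMax
import Mathlib.RingTheory.KrullDimension.Regular
import Mathlib.RingTheory.Ideal.KrullsHeightTheorem
import Mathlib.RingTheory.UniqueFactorizationDomain.Ideal

/-!
The dimension formula for affine domains.
-/

namespace GrothLib.AffDom

open Ideal

variable (k : Type*) [Field k]

/-- A hypersurface in affine space has codimension one. -/
theorem ringKrullDim_quotient_span_mvPolynomial {n : ℕ} {f : MvPolynomial (Fin n) k} (hf : f ≠ 0)
    (hu : ¬ IsUnit f) :
    ringKrullDim (MvPolynomial (Fin n) k ⧸ span {f}) + 1 = (n : WithBot ℕ∞) := by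
  obtain ⟨m, hm, hfm⟩ := exists_le_maximal (span {f}) (span_singleton_ne_top hu)
  have hn : ringKrullDim (MvPolynomial (Fin n) k) = n := by
    rw [MvPolynomial.ringKrullDim_of_isNoetherianRing, ringKrullDim_eq_zero_of_field]; simp
  rw [← hn]
  refine Module.ringKrullDim_quotient_add_one_of_mem_nonZeroDivisors
    (mem_nonZeroDivisors_of_ne_zero hf) (p := m) ?_ (hfm (mem_span_singleton_self f))
  rw [hn, GrothLib.GrpSchField.height_eq_of_isMaximal_mvPolynomial k n m hm]
  rfl

/-- A height one prime of an affine domain has coheight `dim A - 1`. -/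
theorem ringKrullDim_quotient_add_one_of_height_eq_one (A : Type*) [CommRing A] [IsDomain A]
    [Algebra k A] [Algebra.FiniteType k A] (p : Ideal A) [p.IsPrime] (hp : p.height = 1) :
    ringKrullDim (A ⧸ p) + 1 = ringKrullDim A := by
  obtain ⟨n, g, hinj, hfin⟩ := exists_finite_inj_algHom_of_fg k A
  algebraize [g.toRingHom]
  let P := MvPolynomial (Fin n) k
  have : IsNoetherianRing A := Algebra.FiniteType.isNoetherianRing k A
  have : Module.Finite P A := hfin
  have : FaithfulSMul P A := (faithfulSMul_iff_algebraMap_injective _ _).2 hinj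
  have hA : ringKrullDim A = n := by
    rw [GrothLib.Dim.ringKrullDim_eq_of_isIntegral (R := P) (S := A) hinj,
      MvPolynomial.ringKrullDim_of_isNoetherianRing, ringKrullDim_eq_zero_of_field]
    simp
  let q := p.under P
  have hq0 : q ≠ ⊥ := fun h => by
    have := Ideal.eq_bot_of_comap_eq_bot (R := P) h
    rw [this, Ideal.height_bot] at hp
    exact zero_ne_one hp
  obtain ⟨f, hfq, hf⟩ := Ideal.IsPrime.exists_mem_prime_of_ne_bot (I := q) inferInstance hq0
  have hfp : (span {f}).IsPrime := (span_singleton_prime hf.ne_zero).mpr hf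
  have hqeq : q = span {f} := by
    refine le_antisymm ?_ ((span_singleton_le_iff_mem q).mpr hfq)
    by_contra hnot
    have hlt : span {f} < q := lt_of_le_not_ge ((span_singleton_le_iff_mem q).mpr hfq) hnot
    have : p.LiesOver q := ⟨rfl⟩
    obtain ⟨p', hle, hp', hp'q⟩ := Ideal.exists_ideal_le_liesOver_of_le (p := span {f}) (q := q) p
      hlt.le
    have hp'0 : p' ≠ ⊥ := fun h => by
      have := hp'q.over
      rw [h, Ideal.under_def, Ideal.comap_bot_of_injective (algebraMap P A) hinj] at this
      exact hf.ne_zero (span_singleton_eq_bot.mp this)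
    have hlt' : p' < p := lt_of_le_of_ne hle fun h => hlt.ne (by
      show span {f} = p.under P
      rw [← h]; exact hp'q.over)
    have h1 := Ideal.height_strict_mono_of_isPrime hlt'
    have h2 : (⊥ : Ideal A).height < p'.height :=
      Ideal.height_strict_mono_of_isPrime (bot_lt_iff_ne_bot.mpr hp'0)
    rw [hp] at h1
    rw [Ideal.height_bot] at h2
    exact absurd (Order.one_le_iff_pos.mpr h2) (not_le.mpr h1)
  have hint : (algebraMap (P ⧸ q) (A ⧸ p)).IsIntegral := algebraMap_isIntegral_iff.mpr inferInstance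
  have := algebraMap_isIntegral_iff.mp hint
  rw [GrothLib.Dim.ringKrullDim_eq_of_isIntegral (R := P ⧸ q) (S := A ⧸ p)
      Ideal.algebraMap_quotient_injective, hA, hqeq]
  exact ringKrullDim_quotient_span_mvPolynomial k hf.ne_zero hf.not_isUnit

theorem exists_height_one_le (A : Type*) [CommRing A] [IsDomain A] [IsNoetherianRing A]
    (p : Ideal A) [p.IsPrime] (hp : p ≠ ⊥) : ∃ q : Ideal A, q.IsPrime ∧ q ≤ p ∧ q.height = 1 := by
  obtain ⟨x, hx, hx0⟩ := Submodule.exists_mem_ne_zero_of_ne_bot hp
  obtain ⟨q, hq, hqp⟩ := Ideal.exists_minimalPrimes_le (J := p) ((span_singleton_le_iff_mem p).mpr hx)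
  have := hq.1.1
  refine ⟨q, hq.1.1, hqp, le_antisymm
    (Ideal.height_le_one_of_isPrincipal_of_mem_minimalPrimes (span {x}) q hq) ?_⟩
  have hq0 : (⊥ : Ideal A) < q :=
    bot_lt_iff_ne_bot.mpr fun h => hx0 (by simpa [h] using hq.1.2 (mem_span_singleton_self x))
  exact Order.one_le_iff_pos.mpr (lt_of_eq_of_lt Ideal.height_bot.symm
    (Ideal.height_strict_mono_of_isPrime hq0))

/-- `dim A/p` is the coheight of `p`. -/
theorem ringKrullDim_quotient_eq_coheight {A : Type*} [CommRing A] (p : PrimeSpectrum A) :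
    ringKrullDim (A ⧸ p.asIdeal) = (Order.coheight p : WithBot ℕ∞) := by
  rw [ringKrullDim_quotient, Order.coheight_eq_krullDim_Ici]
  rfl

theorem height_add_ringKrullDim_quotient_le {A : Type*} [CommRing A] (p : Ideal A) [hp : p.IsPrime] :
    (p.height : WithBot ℕ∞) + ringKrullDim (A ⧸ p) ≤ ringKrullDim A := by
  let x : PrimeSpectrum A := ⟨p, hp⟩
  have : Nonempty (PrimeSpectrum A) := ⟨x⟩
  rw [show p = x.asIdeal from rfl, ringKrullDim_quotient_eq_coheight, PrimeSpectrum.height_eq_orderHeight]
  unfold ringKrullDim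
  rw [Order.krullDim_eq_iSup_height_add_coheight_of_nonempty, ← WithBot.coe_add, WithBot.coe_le_coe]
  exact le_iSup (fun a : PrimeSpectrum A => Order.height a + Order.coheight a) x

theorem height_map_quotient_add_one_le {A : Type*} [CommRing A] [IsDomain A] {p q : Ideal A}
    [hp : p.IsPrime] [q.IsPrime] (hq : q ≠ ⊥) (hqp : q ≤ p) :
    (p.map (Ideal.Quotient.mk q)).height + 1 ≤ p.height := by
  have hp' : (p.map (Ideal.Quotient.mk q)).IsPrime := Ideal.isPrime_map_quotientMk_of_isPrime hqp
  let x : PrimeSpectrum (A ⧸ q) := ⟨_, hp'⟩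
  let f : PrimeSpectrum (A ⧸ q) → PrimeSpectrum A := PrimeSpectrum.comap (Ideal.Quotient.mk q)
  have hf : StrictMono f := fun a b hab => by
    refine lt_of_le_of_ne (Ideal.comap_mono hab.le) fun h => hab.ne ?_
    exact PrimeSpectrum.ext (Ideal.comap_injective_of_surjective _ Ideal.Quotient.mk_surjective
      (congrArg PrimeSpectrum.asIdeal h))
  have hfx : f x = ⟨p, hp⟩ := PrimeSpectrum.ext (by
    show Ideal.comap _ (p.map _) = p
    rw [Ideal.comap_map_of_surjective _ Ideal.Quotient.mk_surjective, ← RingHom.ker_eq_comap_bot,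
      Ideal.mk_ker, sup_eq_left.mpr hqp])
  let o : PrimeSpectrum A := ⟨⊥, Ideal.isPrime_bot⟩
  have ho : ∀ a, o < f a := fun a => by
    refine lt_of_le_of_ne (bot_le : (⊥ : Ideal A) ≤ (f a).asIdeal) fun h => hq ?_
    have h' : (⊥ : Ideal A) = (f a).asIdeal := congrArg PrimeSpectrum.asIdeal h
    rw [eq_bot_iff]
    intro c hc
    rw [h']
    show Ideal.Quotient.mk q c ∈ a.asIdeal
    rw [Ideal.Quotient.eq_zero_iff_mem.mpr hc]
    exact zero_mem _
  rw [show p.map (Ideal.Quotient.mk q) = x.asIdeal from rfl,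
    show p = (f x).asIdeal from (congrArg PrimeSpectrum.asIdeal hfx).symm,
    PrimeSpectrum.height_eq_orderHeight, PrimeSpectrum.height_eq_orderHeight]
  cases hx : Order.height x with
  | top =>
    have := Order.height_le_height_apply_of_strictMono f hf x
    rw [hx, top_le_iff] at this
    rw [this]; exact le_top
  | coe n =>
    obtain ⟨l, hl, hln⟩ := Order.exists_series_of_height_eq_coe x hx
    have := Order.length_le_height (p := (l.map f hf).cons o (ho l.head)) (x := f x) (by simp [hl])
    simpa [hln, add_comm] using this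

/-- The dimension formula: `ht p + dim A/p = dim A`. -/
theorem height_add_ringKrullDim_quotient (A : Type*) [CommRing A] [IsDomain A] [Algebra k A]
    [Algebra.FiniteType k A] (p : Ideal A) [p.IsPrime] :
    (p.height : WithBot ℕ∞) + ringKrullDim (A ⧸ p) = ringKrullDim A := by
  have : IsNoetherianRing A := Algebra.FiniteType.isNoetherianRing k A
  obtain ⟨h, hh⟩ := WithTop.ne_top_iff_exists.mp (Ideal.height_ne_top (I := p) Ideal.IsPrime.ne_top')
  induction h using Nat.strong_induction_on generalizing A with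
  | _ h ih =>
    rcases eq_or_ne p ⊥ with rfl | hp
    · rw [Ideal.height_bot, ringKrullDim_eq_of_ringEquiv (RingEquiv.quotientBot A)]
      simp
    obtain ⟨q, hq, hqp, hq1⟩ := exists_height_one_le A p hp
    let π := Ideal.Quotient.mk q
    have hp' : (p.map π).IsPrime := Ideal.isPrime_map_quotientMk_of_isPrime hqp
    have hle : (p.map π).height + 1 ≤ p.height := height_map_quotient_add_one_le
      (fun h => by rw [h, Ideal.height_bot] at hq1; exact zero_ne_one hq1) hqp
    obtain ⟨h', hh'⟩ := WithTop.ne_top_iff_exists.mp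
      (Ideal.height_ne_top (I := p.map π) Ideal.IsPrime.ne_top')
    have hlt : h' < h := by
      rw [← hh, ← hh'] at hle
      have h2 : h' + 1 ≤ h := WithTop.coe_le_coe.mp hle
      omega
    have := Algebra.FiniteType.isNoetherianRing k (A ⧸ q)
    have key := ih h' hlt (A ⧸ q) (p.map π) inferInstance hh'
    rw [ringKrullDim_eq_of_ringEquiv (DoubleQuot.quotQuotEquivQuotOfLE hqp)] at key
    refine le_antisymm (height_add_ringKrullDim_quotient_le p) ?_
    rw [← ringKrullDim_quotient_add_one_of_height_eq_one k A q hq1, ← key, add_assoc,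
      add_comm (ringKrullDim (A ⧸ p)) 1, ← add_assoc]
    gcongr
    exact_mod_cast hle

end GrothLib.AffDom

namespace GrothLib.AffDom

open Ideal

/-- A covering relation of primes in an affine algebra drops the dimension by one. -/
theorem ringKrullDim_quotient_covBy (k : Type*) [Field k] (A : Type*) [CommRing A] [Algebra k A]
    [Algebra.FiniteType k A] {p q : PrimeSpectrum A} (h : p ⋖ q) :
    ringKrullDim (A ⧸ q.asIdeal) + 1 = ringKrullDim (A ⧸ p.asIdeal) := by
  let π := Ideal.Quotient.mk p.asIdeal
  have hpq : p.asIdeal ≤ q.asIdeal := h.lt.le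
  have hq' : (q.asIdeal.map π).IsPrime := Ideal.isPrime_map_quotientMk_of_isPrime hpq
  have hcomap : (q.asIdeal.map π).comap π = q.asIdeal := by
    rw [Ideal.comap_map_of_surjective _ Ideal.Quotient.mk_surjective, ← RingHom.ker_eq_comap_bot,
      Ideal.mk_ker, sup_eq_left.mpr hpq]
  have hne : q.asIdeal.map π ≠ ⊥ := fun h0 => h.lt.ne (PrimeSpectrum.ext (by
    rw [← hcomap, h0, ← RingHom.ker_eq_comap_bot, Ideal.mk_ker]))
  have : IsNoetherianRing (A ⧸ p.asIdeal) := Algebra.FiniteType.isNoetherianRing k _
  obtain ⟨r, hr, hrle, hr1⟩ := exists_height_one_le (A ⧸ p.asIdeal) (q.asIdeal.map π) hne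
  have hr_eq : r = q.asIdeal.map π := by
    by_contra hne'
    let x : PrimeSpectrum A := ⟨r.comap π, inferInstance⟩
    have hx1 : p < x := by
      refine lt_of_le_of_ne (fun c hc => ?_ : p.asIdeal ≤ x.asIdeal) fun he => ?_
      · show π c ∈ r
        rw [Ideal.Quotient.eq_zero_iff_mem.mpr hc]
        exact zero_mem _
      · have : r = ⊥ := by
          rw [← Ideal.map_comap_of_surjective π Ideal.Quotient.mk_surjective r,
            show r.comap π = p.asIdeal from (congrArg PrimeSpectrum.asIdeal he).symm,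
            Ideal.map_quotient_self]
        rw [this, Ideal.height_bot] at hr1
        exact zero_ne_one hr1
    refine h.2 hx1 (lt_of_le_of_ne (hcomap ▸ Ideal.comap_mono hrle : x.asIdeal ≤ q.asIdeal) fun he => hne' ?_)
    rw [← Ideal.map_comap_of_surjective π Ideal.Quotient.mk_surjective r]
    exact congrArg (Ideal.map π) (congrArg PrimeSpectrum.asIdeal he)
  subst hr_eq
  rw [← ringKrullDim_quotient_add_one_of_height_eq_one k (A ⧸ p.asIdeal) _ hr1,
    ringKrullDim_eq_of_ringEquiv (DoubleQuot.quotQuotEquivQuotOfLE hpq)]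

end GrothLib.AffDom
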