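import Groth.Agent.Lib.AffDom.Formula
import Groth.Agent.Lib.Dim.Morphism

/-!
The dimension of the closure of a point of a scheme locally of finite type over a field is the
transcendence degree of its residue field; dimension of fibres and local dimension.
-/

universe u

open CategoryTheory Limits AlgebraicGeometry TopologicalSpace Topology

namespace GrothLib.AffDom

variable {K : Type u} [Field K]

/-- The ring map from the base field to a residue field. -/
noncomputable def toRes {X : Scheme.{u}} (f : X ⟶ Spec (CommRingCat.of K)) (x : X) :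
    K →+* X.residueField x :=
  (Spec.preimage (X.fromSpecResidueField x ≫ f)).hom

theorem SpecMap_toRes {X : Scheme.{u}} (f : X ⟶ Spec (CommRingCat.of K)) (x : X) :
    Spec.map (CommRingCat.ofHom (toRes f x)) = X.fromSpecResidueField x ≫ f := by
  simp [toRes]

/-- The transcendence degree of a residue field over the base field. -/
noncomputable def ptTrdeg {X : Scheme.{u}} (f : X ⟶ Spec (CommRingCat.of K)) (x : X) : Cardinal.{u} :=
  letI := (toRes f x).toAlgebra
  Algebra.trdeg K (X.residueField x)

theorem trdeg_eq_of_comp_eq {A B : Type u} [CommRing A] [CommRing B] (i : K →+* A) (j : K →+* B)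
    (e : A →+* B) (he : Function.Bijective e) (h : e.comp i = j) :
    letI := i.toAlgebra; letI := j.toAlgebra
    Algebra.trdeg K A = Algebra.trdeg K B := by
  let _ := i.toAlgebra
  let _ := j.toAlgebra
  exact AlgEquiv.trdeg_eq (AlgEquiv.ofBijective { e with commutes' := RingHom.congr_fun h } he)

theorem residueFieldMap_surjective {X Y : Scheme.{u}} (f : X ⟶ Y) [IsPreimmersion f] (x : X) :
    Function.Surjective (f.residueFieldMap x).hom := by
  intro b
  obtain ⟨c, rfl⟩ := X.residue_surjective x b
  obtain ⟨a, rfl⟩ := f.stalkMap_surjective x c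
  exact ⟨Y.residue (f x) a, by
    simpa using congrArg (fun φ => φ.hom a) (Scheme.residue_residueFieldMap f x)⟩

theorem toRes_comp {X Y : Scheme.{u}} (f : X ⟶ Y) (q : Y ⟶ Spec (CommRingCat.of K)) (x : X) :
    toRes (f ≫ q) x = (f.residueFieldMap x).hom.comp (toRes q (f x)) := by
  have h : CommRingCat.ofHom (toRes (f ≫ q) x) =
      CommRingCat.ofHom (toRes q (f x)) ≫ f.residueFieldMap x := by
    apply Spec.map_injective
    rw [SpecMap_toRes, Spec.map_comp, SpecMap_toRes,
      Scheme.Hom.SpecMap_residueFieldMap_fromSpecResidueField_assoc]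
  exact congrArg CommRingCat.Hom.hom h

theorem ptTrdeg_preimmersion {X Y : Scheme.{u}} (f : X ⟶ Y) [IsPreimmersion f]
    (q : Y ⟶ Spec (CommRingCat.of K)) (x : X) :
    ptTrdeg q (f x) = ptTrdeg (f ≫ q) x :=
  trdeg_eq_of_comp_eq _ _ (f.residueFieldMap x).hom
    ⟨(f.residueFieldMap x).hom.injective, residueFieldMap_surjective f x⟩ (toRes_comp f q x).symm

/-- On `Spec A`, the residue field has transcendence degree `dim A/p`. -/
theorem exists_ptTrdeg_Spec {A : Type u} [CommRing A] [Algebra K A] [Algebra.FiniteType K A]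
    (p : PrimeSpectrum A) :
    ∃ n : ℕ, ringKrullDim (A ⧸ p.asIdeal) = n ∧
      ptTrdeg (Spec.map (CommRingCat.ofHom (algebraMap K A))) (X := Spec (CommRingCat.of A)) p = n := by
  obtain ⟨n, h1, h2⟩ := GrothLib.Dim.exists_nat_trdeg_eq_and_ringKrullDim_eq K (A ⧸ p.asIdeal)
  refine ⟨n, h2, ?_⟩
  have hF : Algebra.trdeg K p.asIdeal.ResidueField = n := by
    have : Algebra.IsAlgebraic (A ⧸ p.asIdeal) p.asIdeal.ResidueField :=
      GrothLib.Dim.isAlgebraic_of_isLocalization (nonZeroDivisors _) le_rfl
    have : FaithfulSMul (A ⧸ p.asIdeal) p.asIdeal.ResidueField :=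
      (faithfulSMul_iff_algebraMap_injective _ _).2 p.asIdeal.injective_algebraMap_quotient_residueField
    rw [← h1]
    exact GrothLib.Dim.trdeg_eq_of_algebraic
  rw [← hF]
  let e := Scheme.Spec.residueFieldIso (CommRingCat.of A) p
  refine trdeg_eq_of_comp_eq (B := p.asIdeal.ResidueField) _ (algebraMap K p.asIdeal.ResidueField)
    e.hom.hom (ConcreteCategory.bijective_of_isIso e.hom) ?_ |>.trans ?_
  · show e.hom.hom.comp _ = (algebraMap K p.asIdeal.ResidueField)
    have h : CommRingCat.ofHom (toRes (Spec.map (CommRingCat.ofHom (algebraMap K A))) (X := Spec (CommRingCat.of A)) p) =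
        CommRingCat.ofHom (algebraMap K p.asIdeal.ResidueField) ≫ e.inv := by
      apply Spec.map_injective
      rw [SpecMap_toRes, Spec.map_comp, IsScalarTower.algebraMap_eq K A p.asIdeal.ResidueField,
        CommRingCat.ofHom_comp, Spec.map_comp, ← Category.assoc,
        Scheme.Spec.map_residueFieldIso_inv_eq_fromSpecResidueField]
    have h' := congrArg (fun φ => (φ ≫ e.hom).hom) h
    simpa using h'
  · congr 1

/-- The closure of a point has dimension the transcendence degree of its residue field. -/
theorem exists_dim_closure {X : Scheme.{u}} (f : X ⟶ Spec (CommRingCat.of K))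
    [LocallyOfFiniteType f] (x : X) :
    ∃ n : ℕ, topologicalKrullDim (closure {x} : Set X) = n ∧ ptTrdeg f x = n := by
  obtain ⟨_, ⟨U, hU, rfl⟩, hxU, -⟩ :=
    X.isBasis_affineOpens.exists_subset_of_mem_open (Set.mem_univ x) isOpen_univ
  have hU : IsAffineOpen U := hU
  obtain ⟨ψ, hψ, hψ'⟩ := GrothLib.Dim.exists_finiteType_specMap f hU
  algebraize [ψ.hom]
  have : Algebra.FiniteType K Γ(X, U) := hψ
  obtain ⟨p, rfl⟩ := hU.range_fromSpec.ge hxU
  obtain ⟨n, h1, h2⟩ := exists_ptTrdeg_Spec (K := K) (A := Γ(X, U)) p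
  refine ⟨n, ?_, ?_⟩
  · obtain ⟨m, hm, hmU⟩ := GrothLib.Dim.exists_nat_dim_irreducible f
      (S := closure {hU.fromSpec p}) isClosed_closure isIrreducible_singleton.closure
    rw [hm, ← hmU U ⟨_, subset_closure rfl, hxU⟩, ← h1,
      ← PrimeSpectrum.topologicalKrullDim_eq_ringKrullDim]
    refine (GrothLib.Dim.IsEmbedding.topologicalKrullDim_eq
      (f := fun q => hU.fromSpec (PrimeSpectrum.comap (Ideal.Quotient.mk p.asIdeal) q))
      (hU.fromSpec.isEmbedding.comp
        (PrimeSpectrum.isClosedEmbedding_comap_of_surjective _ _ Ideal.Quotient.mk_surjective).isEmbedding) ?_).symm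
    have hr : Set.range (PrimeSpectrum.comap (Ideal.Quotient.mk p.asIdeal)) = closure {p} :=
      (range_comap_of_surjective _ _ Ideal.Quotient.mk_surjective).trans
        ((congrArg (fun J : Ideal Γ(X, U) => PrimeSpectrum.zeroLocus (J : Set Γ(X, U)))
          (Ideal.mk_ker (I := p.asIdeal))).trans (PrimeSpectrum.closure_singleton p).symm)
    refine (Set.range_comp' hU.fromSpec _).trans ((congrArg (hU.fromSpec '' ·) hr).trans ?_)
    refine Set.Subset.antisymm ?_ ?_
    · rintro _ ⟨q, hq, rfl⟩
      exact ⟨map_mem_closure hU.fromSpec.continuous hq (fun _ hz => by rw [Set.mem_singleton_iff.1 hz]; rfl),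
        hU.range_fromSpec.le ⟨q, rfl⟩⟩
    · rintro z ⟨hz, hzU⟩
      obtain ⟨q, rfl⟩ := hU.range_fromSpec.ge hzU
      exact ⟨q, specializes_iff_mem_closure.1
        (hU.fromSpec.isEmbedding.isInducing.specializes_iff.1 (specializes_iff_mem_closure.2 hz)), rfl⟩
  · rw [← h2]
    have := ptTrdeg_preimmersion hU.fromSpec f p
    rw [hψ'] at this
    exact this

/-- The dimension of the closure of a point. -/
noncomputable def ptDim {X : Scheme.{u}} (x : X) : WithBot ℕ∞ :=
  topologicalKrullDim (closure {x} : Set X)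

theorem ptDim_le {X : Scheme.{u}} (x : X) : ptDim x ≤ topologicalKrullDim X :=
  topologicalKrullDim_subspace_le X _

theorem ptDim_mono {X : Scheme.{u}} {x y : X} (h : x ⤳ y) : ptDim y ≤ ptDim x :=
  (IsEmbedding.inclusion (closure_minimal (Set.singleton_subset_iff.2 h.mem_closure)
    isClosed_closure)).isInducing.topologicalKrullDim_le

/-- The dimension of a sober space is the supremum of the dimensions of closures of points. -/
theorem topologicalKrullDim_eq_iSup (X : Type*) [TopologicalSpace X] [QuasiSober X] :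
    topologicalKrullDim X = ⨆ x : X, topologicalKrullDim (closure {x} : Set X) := by
  refine le_antisymm (iSup_le fun l => ?_) (iSup_le fun x => topologicalKrullDim_subspace_le X _)
  have hη := l.last.isIrreducible.isGenericPoint_genericPoint l.last.isClosed
  refine le_trans ?_ (le_iSup (fun x : X => topologicalKrullDim (closure {x} : Set X))
    l.last.isIrreducible.genericPoint)
  rw [hη.def]
  let emb : ∀ j, IrreducibleCloseds (l.last : Set X) := fun j =>
    { carrier := Subtype.val ⁻¹' (l j : Set X)
      isIrreducible' := by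
        refine ⟨?_, ?_⟩
        · obtain ⟨z, hz⟩ := (l j).isIrreducible.nonempty
          exact ⟨⟨z, (l.monotone (Fin.le_last j) : l j ≤ l.last) hz⟩, hz⟩
        · rintro _ _ ⟨u, hu, rfl⟩ ⟨v, hv, rfl⟩ ⟨a, haj, hau⟩ ⟨b, hbj, hbv⟩
          obtain ⟨c, hcj, hcu, hcv⟩ :=
            (l j).isIrreducible.2 u v hu hv ⟨a.1, haj, hau⟩ ⟨b.1, hbj, hbv⟩
          exact ⟨⟨c, (l.monotone (Fin.le_last j) : l j ≤ l.last) hcj⟩, hcj, hcu, hcv⟩
      isClosed' := (l j).isClosed.preimage continuous_subtype_val }
  let l' : LTSeries (IrreducibleCloseds (l.last : Set X)) :=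
    { length := l.length
      toFun := emb
      step := fun j => by
        show emb j.castSucc < emb j.succ
        have hlt : l j.castSucc < l j.succ := l.step j
        refine lt_of_le_of_ne (fun z hz => hlt.le hz) fun he => hlt.ne ?_
        refine SetLike.coe_injective (Set.Subset.antisymm hlt.le fun z hz => ?_)
        have hz' : (⟨z, (l.monotone (Fin.le_last j.succ) : l j.succ ≤ l.last) hz⟩ : (l.last : Set X)) ∈ emb j.castSucc := by
          rw [he]; exact hz
        exact hz' }
  exact le_iSup (fun L : LTSeries (IrreducibleCloseds (l.last : Set X)) => (L.length : WithBot ℕ∞)) l'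

theorem topologicalKrullDim_eq_iSup_ptDim (X : Scheme.{u}) :
    topologicalKrullDim X = ⨆ x : X, ptDim x :=
  topologicalKrullDim_eq_iSup X

/-- The dimension of a point is that of its image plus that in the fibre. -/
theorem ptDim_fiberι {X Y : Scheme.{u}} (f : X ⟶ Y) [LocallyOfFiniteType f]
    (q : Y ⟶ Spec (CommRingCat.of K)) [LocallyOfFiniteType q] (y : Y) (z : f.fiber y) :
    ptDim (f.fiberι y z) = ptDim y + ptDim z := by
  let g : f.fiber y ⟶ Spec (CommRingCat.of (Y.residueField y)) := f.fiberToSpecResidueField y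
  have : LocallyOfFiniteType g := MorphismProperty.pullback_snd f (Y.fromSpecResidueField y) ‹_›
  obtain ⟨a, ha, ha'⟩ := exists_dim_closure (f ≫ q) (f.fiberι y z)
  obtain ⟨b, hb, hb'⟩ := exists_dim_closure q y
  obtain ⟨c, hc, hc'⟩ := exists_dim_closure g z
  unfold ptDim
  rw [ha, hb, hc]
  suffices h : (a : Cardinal.{u}) = b + c by exact_mod_cast h
  rw [← ha', ← hb', ← hc', ptTrdeg_preimmersion (f.fiberι y) (f ≫ q) z]
  have h : f.fiberι y ≫ f ≫ q = g ≫ Spec.map (CommRingCat.ofHom (toRes q y)) := by
    rw [SpecMap_toRes, ← Category.assoc, f.fiber_fac y, Category.assoc]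
  have h2 : toRes (f.fiberι y ≫ f ≫ q) z = (toRes g z).comp (toRes q y) := by
    have h3 : CommRingCat.ofHom (toRes (f.fiberι y ≫ f ≫ q) z) =
        CommRingCat.ofHom (toRes q y) ≫ CommRingCat.ofHom (toRes g z) := by
      apply Spec.map_injective
      rw [SpecMap_toRes, Spec.map_comp, h, ← Category.assoc]
      congr 1
      exact (SpecMap_toRes g z).symm
    exact congrArg CommRingCat.Hom.hom h3
  let _ := (toRes q y).toAlgebra
  let _ := (toRes g z).toAlgebra
  let _ := (toRes (f.fiberι y ≫ f ≫ q) z).toAlgebra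
  have : IsScalarTower K (Y.residueField y) ((f.fiber y).residueField z) :=
    IsScalarTower.of_algebraMap_eq' h2
  exact (trdeg_add_eq K (Y.residueField y) (A := (f.fiber y).residueField z)).symm

theorem ptDim_eq_add {X Y : Scheme.{u}} (f : X ⟶ Y) [LocallyOfFiniteType f]
    (q : Y ⟶ Spec (CommRingCat.of K)) [LocallyOfFiniteType q] (x : X) :
    ptDim x = ptDim (f x) + ptDim (f.asFiber x) := by
  have := ptDim_fiberι f q (f x) (f.asFiber x)
  rwa [Scheme.Hom.fiberι_asFiber] at this

theorem topologicalKrullDim_fiber {X Y : Scheme.{u}} (f : X ⟶ Y) (y : Y) :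
    topologicalKrullDim (f ⁻¹' {y} : Set X) = topologicalKrullDim (f.fiber y) :=
  (IsHomeomorph.topologicalKrullDim_eq _ (f.fiberHomeo y).isHomeomorph).symm

theorem exists_nat_ptDim {X : Scheme.{u}} (f : X ⟶ Spec (CommRingCat.of K))
    [LocallyOfFiniteType f] (x : X) : ∃ n : ℕ, ptDim x = n :=
  let ⟨n, hn, _⟩ := exists_dim_closure f x
  ⟨n, hn⟩

theorem ptDim_nonneg {X : Scheme.{u}} (x : X) : 0 ≤ ptDim x := by
  refine le_iSup_of_le (RelSeries.singleton _ ⟨Set.univ, ?_, isClosed_univ⟩) le_rfl
  have : IrreducibleSpace (closure {x} : Set X) :=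
    Subtype.irreducibleSpace isIrreducible_singleton.closure
  exact IrreducibleSpace.isIrreducible_univ _

theorem add_iSup_le {ι : Type*} {d : ι → WithBot ℕ∞} {b : WithBot ℕ∞} (r : ℕ)
    (h : ∀ i, (r : WithBot ℕ∞) + d i ≤ b) : (r : WithBot ℕ∞) + ⨆ i, d i ≤ b := by
  cases b with
  | bot =>
    have : ∀ i, d i = ⊥ := fun i => by
      rcases WithBot.add_eq_bot.1 (le_bot_iff.1 (h i)) with hr | hd
      · exact absurd hr (WithBot.natCast_ne_bot r)
      · exact hd
    simp [this]
  | coe b =>
    cases b with
    | top => exact le_top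
    | coe m =>
      rcases Classical.em (∃ i, d i ≠ ⊥) with ⟨i, hi⟩ | hall
      · have hrm : r ≤ m := by
          have h1 := h i
          cases hdi : d i with
          | bot => exact absurd hdi hi
          | coe v =>
            rw [hdi] at h1
            have h2 : ((r : ℕ∞) + v) ≤ (m : ℕ∞) := WithBot.coe_le_coe.1 h1
            exact ENat.natCast_le_natCast.1 (le_trans (le_add_of_nonneg_right bot_le) h2)
        have hle : ∀ j, d j ≤ ((m - r : ℕ) : WithBot ℕ∞) := fun j => by
          have h1 := h j
          cases hdj : d j with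
          | bot => exact bot_le
          | coe v =>
            rw [hdj] at h1
            have h2 : ((r : ℕ∞) + v) ≤ (m : ℕ∞) := WithBot.coe_le_coe.1 h1
            cases v with
            | top => simp at h2
            | coe w =>
              refine WithBot.coe_le_coe.2 ?_
              have h3 : r + w ≤ m := by exact_mod_cast h2
              exact ENat.natCast_le_natCast.2 (by omega)
        calc (r : WithBot ℕ∞) + ⨆ j, d j ≤ r + ((m - r : ℕ) : WithBot ℕ∞) :=
              add_le_add le_rfl (iSup_le hle)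
          _ = ((r + (m - r) : ℕ) : WithBot ℕ∞) := (Nat.cast_add _ _).symm
          _ ≤ _ := by rw [Nat.add_sub_cancel' hrm]; rfl
      · push Not at hall
        simp [hall]

/-- A supremum at least a natural number is attained up to it. -/
theorem exists_le_of_le_iSup {ι : Type*} [Nonempty ι] {d : ι → WithBot ℕ∞} (hd : ∀ i, 0 ≤ d i)
    (r : ℕ) (h : (r : WithBot ℕ∞) ≤ ⨆ i, d i) : ∃ i, (r : WithBot ℕ∞) ≤ d i := by
  rcases r with _ | s
  · exact ⟨Classical.arbitrary ι, by simpa using hd _⟩
  · have hlt : (s : WithBot ℕ∞) < ⨆ i, d i := lt_of_lt_of_le (by exact_mod_cast Nat.lt_succ_self s) h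
    obtain ⟨i, hi⟩ := lt_iSup_iff.1 hlt
    refine ⟨i, ?_⟩
    cases hdi : d i with
    | bot => rw [hdi] at hi; exact absurd hi not_lt_bot
    | coe v =>
      rw [hdi] at hi
      cases v with
      | top => exact le_top
      | coe w =>
        have : s < w := by exact_mod_cast hi
        exact_mod_cast this

theorem exists_maximal_point {X : Scheme.{u}} (x : X) :
    ∃ η : X, η ⤳ x ∧ ∀ y : X, y ⤳ η → y = η := by
  obtain ⟨Z, hZ, hxZ⟩ := exists_mem_irreducibleComponents_subset_of_isIrreducible {x} isIrreducible_singleton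
  have hη := hZ.1.isGenericPoint_genericPoint (isClosed_of_mem_irreducibleComponents Z hZ)
  refine ⟨hZ.1.genericPoint, hη.specializes (hxZ rfl), fun y hy => ?_⟩
  have hsub : Z ⊆ closure {y} := by
    rw [← hη.def]
    exact closure_minimal (Set.singleton_subset_iff.2 hy.mem_closure) isClosed_closure
  have := Set.Subset.antisymm (hZ.2 isIrreducible_singleton.closure hsub) hsub
  exact ((show IsGenericPoint y Z from this).eq hη)

end GrothLib.AffDom
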