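import Groth.Agent.Lib.AffDom.PointDim
import Groth.Prelude.Def_Flat

/-!
The local dimension of a scheme locally of finite type over a field.
-/

universe u

open CategoryTheory Limits AlgebraicGeometry TopologicalSpace Topology

namespace GrothLib.AffDom

variable {K : Type u} [Field K]

theorem height_le_of_quotient {A : Type*} [CommRing A] {P p : Ideal A} [P.IsPrime] [p.IsPrime]
    (h : P ≤ p) :
    letI := Ideal.isPrime_map_quotientMk_of_isPrime h
    (p.map (Ideal.Quotient.mk P)).height ≤ p.height := by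
  have hp' := Ideal.isPrime_map_quotientMk_of_isPrime h
  let x : PrimeSpectrum (A ⧸ P) := ⟨_, hp'⟩
  let f : PrimeSpectrum (A ⧸ P) → PrimeSpectrum A := PrimeSpectrum.comap (Ideal.Quotient.mk P)
  have hf : StrictMono f := fun a b hab => by
    refine lt_of_le_of_ne (Ideal.comap_mono hab.le) fun he => hab.ne ?_
    exact PrimeSpectrum.ext (Ideal.comap_injective_of_surjective _ Ideal.Quotient.mk_surjective
      (congrArg PrimeSpectrum.asIdeal he))
  have hfx : f x = ⟨p, inferInstance⟩ := PrimeSpectrum.ext (by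
    show Ideal.comap _ (p.map _) = p
    rw [Ideal.comap_map_of_surjective _ Ideal.Quotient.mk_surjective, ← RingHom.ker_eq_comap_bot,
      Ideal.mk_ker, sup_eq_left.mpr h])
  show x.asIdeal.height ≤ (⟨p, inferInstance⟩ : PrimeSpectrum A).asIdeal.height
  rw [PrimeSpectrum.height_eq_orderHeight, PrimeSpectrum.height_eq_orderHeight, ← hfx]
  exact Order.height_le_height_apply_of_strictMono f hf x

/-- Near a prime `p` of an affine algebra, every point has dimension at most `ht p + dim A/p`. -/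
theorem exists_notMem_forall_dim_quotient_le (k : Type*) [Field k] (A : Type*) [CommRing A]
    [Algebra k A] [Algebra.FiniteType k A] (p : Ideal A) [p.IsPrime] :
    ∃ g ∉ p, ∀ q : PrimeSpectrum A, g ∉ q.asIdeal →
      ringKrullDim (A ⧸ q.asIdeal) ≤ (p.height : WithBot ℕ∞) + ringKrullDim (A ⧸ p) := by
  classical
  have : IsNoetherianRing A := Algebra.FiniteType.isNoetherianRing k A
  have hfin : (minimalPrimes A).Finite := minimalPrimes.finite_of_isNoetherianRing A
  let S := hfin.toFinset.filter fun P => ¬ P ≤ p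
  have hex : ∀ P : S, ∃ a ∈ (P.1 : Ideal A), a ∉ p := fun P =>
    SetLike.not_le_iff_exists.1 (Finset.mem_filter.1 P.2).2
  choose a ha hap using hex
  refine ⟨∏ P, a P, fun h => ?_, fun q hq => ?_⟩
  · obtain ⟨P, -, hP⟩ := (‹p.IsPrime›.prod_mem_iff).1 h
    exact hap P hP
  obtain ⟨P, hP, hPq⟩ := Ideal.exists_minimalPrimes_le (J := q.asIdeal) (bot_le : ⊥ ≤ _)
  have hPp : P ≤ p := by
    by_contra hne
    refine hq (hPq ?_)
    have hmem : P ∈ S := Finset.mem_filter.2 ⟨hfin.mem_toFinset.2 hP, hne⟩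
    exact Ideal.mem_of_dvd _ (Finset.dvd_prod_of_mem a (Finset.mem_univ (⟨P, hmem⟩ : S))) (ha ⟨P, hmem⟩)
  have := hP.1.1
  have hp' : (p.map (Ideal.Quotient.mk P)).IsPrime := Ideal.isPrime_map_quotientMk_of_isPrime hPp
  calc ringKrullDim (A ⧸ q.asIdeal) ≤ ringKrullDim (A ⧸ P) :=
        ringKrullDim_le_of_surjective (Ideal.Quotient.factor hPq) (Ideal.Quotient.factor_surjective hPq)
    _ = _ := (height_add_ringKrullDim_quotient k (A ⧸ P) (p.map (Ideal.Quotient.mk P))).symm
    _ ≤ _ := by
        rw [ringKrullDim_eq_of_ringEquiv (DoubleQuot.quotQuotEquivQuotOfLE hPp)]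
        gcongr
        exact_mod_cast height_le_of_quotient hPp

theorem ptDim_fromSpec {X : Scheme.{u}} (f : X ⟶ Spec (CommRingCat.of K)) [LocallyOfFiniteType f]
    {U : X.Opens} (hU : IsAffineOpen U) (p : PrimeSpectrum Γ(X, U)) :
    ptDim (hU.fromSpec p) = ringKrullDim (Γ(X, U) ⧸ p.asIdeal) := by
  obtain ⟨ψ, hψ, hψ'⟩ := GrothLib.Dim.exists_finiteType_specMap f hU
  algebraize [ψ.hom]
  have : Algebra.FiniteType K Γ(X, U) := hψ
  obtain ⟨n, h1, h2⟩ := exists_ptTrdeg_Spec (K := K) (A := Γ(X, U)) p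
  obtain ⟨m, hm, hm'⟩ := exists_dim_closure f (hU.fromSpec p)
  rw [ptDim, hm, h1]
  have h3 := ptTrdeg_preimmersion hU.fromSpec f p
  rw [hψ'] at h3
  have h4 : (m : Cardinal.{u}) = n := hm'.symm.trans (h3.trans h2)
  rw [Nat.cast_injective h4]

theorem ringKrullDim_stalk_fromSpec {X : Scheme.{u}} {U : X.Opens} (hU : IsAffineOpen U)
    (p : PrimeSpectrum Γ(X, U)) :
    ringKrullDim (X.presheaf.stalk (hU.fromSpec p)) = (p.asIdeal.height : WithBot ℕ∞) := by
  have hmem : hU.fromSpec p ∈ U := hU.range_fromSpec.le ⟨p, rfl⟩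
  have := hU.isLocalization_stalk' p hmem
  exact @IsLocalization.AtPrime.ringKrullDim_eq_height Γ(X, U) _ p.asIdeal _
    (X.presheaf.stalk (hU.fromSpec p)) _ (X.presheaf.algebra_section_stalk ⟨_, hmem⟩) this

/-- The local dimension is the dimension of the point plus that of its local ring. -/
theorem localDim_eq {X : Scheme.{u}} (f : X ⟶ Spec (CommRingCat.of K)) [LocallyOfFiniteType f] (x : X) :
    FlatMor.localDim X x = ptDim x + ringKrullDim (X.presheaf.stalk x) := by
  obtain ⟨_, ⟨U, hU, rfl⟩, hxU, -⟩ :=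
    X.isBasis_affineOpens.exists_subset_of_mem_open (Set.mem_univ x) isOpen_univ
  have hU : IsAffineOpen U := hU
  obtain ⟨p, rfl⟩ := hU.range_fromSpec.ge hxU
  rw [ptDim_fromSpec f hU, ringKrullDim_stalk_fromSpec hU, add_comm]
  refine le_antisymm ?_ (le_iInf fun ⟨V, hV⟩ => ?_)
  · obtain ⟨ψ, hψ, hψ'⟩ := GrothLib.Dim.exists_finiteType_specMap f hU
    algebraize [ψ.hom]
    have : Algebra.FiniteType K Γ(X, U) := hψ
    obtain ⟨g, hg, hle⟩ := exists_notMem_forall_dim_quotient_le K Γ(X, U) p.asIdeal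
    have hmem : hU.fromSpec p ∈ X.basicOpen g :=
      (hU.fromSpec_preimage_basicOpen g).ge (show p ∈ PrimeSpectrum.basicOpen g from hg)
    refine iInf_le_of_le ⟨X.basicOpen g, hmem⟩ ?_
    show topologicalKrullDim (X.basicOpen g : Scheme.{u}) ≤ _
    rw [topologicalKrullDim_eq_iSup_ptDim]
    refine iSup_le fun z => ?_
    obtain ⟨q, hq⟩ := hU.range_fromSpec.ge (X.basicOpen_le g z.2)
    obtain ⟨a, ha, ha'⟩ := exists_dim_closure ((X.basicOpen g).ι ≫ f) z
    obtain ⟨b, hb, hb'⟩ := exists_dim_closure f ((X.basicOpen g).ι z)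
    have hab : a = b := by
      have := ptTrdeg_preimmersion (X.basicOpen g).ι f z
      rw [ha', hb'] at this
      exact (Nat.cast_injective this).symm
    have hpt : ptDim z = ptDim (hU.fromSpec q) := by
      rw [ptDim, ha, hab, ← hb, hq]
      rfl
    rw [hpt, ptDim_fromSpec f hU]
    refine hle q ?_
    have := z.2
    rw [← hq] at this
    exact ((hU.fromSpec_preimage_basicOpen g).le this : q ∈ PrimeSpectrum.basicOpen g)
  · obtain ⟨ψ, hψ, hψ'⟩ := GrothLib.Dim.exists_finiteType_specMap f hU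
    algebraize [ψ.hom]
    have : Algebra.FiniteType K Γ(X, U) := hψ
    obtain ⟨g, hgV, hgp⟩ := hU.exists_basicOpen_le ⟨hU.fromSpec p, hV⟩ hxU
    replace hgp : hU.fromSpec p ∈ X.basicOpen g := hgp
    refine le_trans ?_ (IsEmbedding.inclusion hgV).isInducing.topologicalKrullDim_le
    refine le_trans ?_ (le_of_eq (GrothLib.Dim.topologicalKrullDim_affineOpen (hU.basicOpen g)).symm)
    have := hU.isLocalization_basicOpen g
    have hdisj : Disjoint (Submonoid.powers g : Set Γ(X, U)) p.asIdeal := by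
      refine (Ideal.disjoint_powers_iff_notMem_of_isPrime g).2 ?_
      exact ((hU.fromSpec_preimage_basicOpen g).le hgp : p ∈ PrimeSpectrum.basicOpen g)
    let q := p.asIdeal.map (algebraMap Γ(X, U) Γ(X, X.basicOpen g))
    have hq : q.IsPrime := IsLocalization.isPrime_of_isPrime_disjoint (Submonoid.powers g) _ _ p.2 hdisj
    have hqc : q.comap (algebraMap Γ(X, U) Γ(X, X.basicOpen g)) = p.asIdeal :=
      IsLocalization.under_map_of_isPrime_disjoint (Submonoid.powers g) _ p.2 hdisj
    refine le_trans (le_of_eq ?_) (height_add_ringKrullDim_quotient_le q)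
    obtain ⟨n, -, hn⟩ := GrothLib.Dim.exists_nat_trdeg_eq_and_ringKrullDim_eq K (Γ(X, U) ⧸ p.asIdeal)
    congr 1
    · rw [← hqc, IsLocalization.height_under (Submonoid.powers g)]
    · obtain ⟨q', hq'⟩ := (hU.basicOpen g).range_fromSpec.ge hgp
      have e1 := ptDim_fromSpec f (hU.basicOpen g) q'
      rw [hq', ptDim_fromSpec f hU p] at e1
      rw [e1]
      have hqq : q'.asIdeal = q := by
        have h2 : PrimeSpectrum.comap (algebraMap Γ(X, U) Γ(X, X.basicOpen g)) q' = p := by
          apply hU.fromSpec.isOpenEmbedding.injective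
          rw [← hq']
          exact congr($(hU.map_fromSpec (hU.basicOpen g) (homOfLE (X.basicOpen_le g)).op) q')
        rw [show q'.asIdeal = (q'.asIdeal.comap (algebraMap Γ(X, U) Γ(X, X.basicOpen g))).map _ from
          (IsLocalization.map_under (Submonoid.powers g) _ _).symm]
        exact congrArg (Ideal.map _) (congrArg PrimeSpectrum.asIdeal h2)
      rw [hqq]

end GrothLib.AffDom
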