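import Groth.Agent.Lib.AffDom.GenericFibre
import Groth.Agent.Lib.AffDom.LocalDim
import Mathlib.AlgebraicGeometry.Morphisms.ClosedImmersion
import Mathlib.Topology.JacobsonSpace

/-!
Dimensions of fibres in terms of points.
-/

universe u

open CategoryTheory Limits AlgebraicGeometry TopologicalSpace Topology

namespace GrothLib.AffDom

variable {K : Type u} [Field K] {X Y : Scheme.{u}}

theorem ptDim_closedPoint {x : X} (hx : IsClosed ({x} : Set X)) : ptDim x = 0 := by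
  refine le_antisymm ?_ (ptDim_nonneg x)
  unfold ptDim
  rw [hx.closure_eq]
  exact topologicalKrullDim_zero_of_discreteTopology _

theorem isClosed_of_ptDim_eq_zero [QuasiSober X] {x : X} (h : ptDim x = 0) : IsClosed ({x} : Set X) := by
  suffices h' : closure ({x} : Set X) = {x} by rw [← h']; exact isClosed_closure
  refine Set.Subset.antisymm (fun y hy => ?_) subset_closure
  by_contra hne
  let a : IrreducibleCloseds (closure {x} : Set X) :=
    { carrier := closure {(⟨y, hy⟩ : (closure {x} : Set X))}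
      isIrreducible' := isIrreducible_singleton.closure
      isClosed' := isClosed_closure }
  let b : IrreducibleCloseds (closure {x} : Set X) :=
    { carrier := Set.univ
      isIrreducible' := by
        have : IrreducibleSpace (closure {x} : Set X) := Subtype.irreducibleSpace isIrreducible_singleton.closure
        exact IrreducibleSpace.isIrreducible_univ _
      isClosed' := isClosed_univ }
  have hab : a < b := lt_of_le_of_ne (fun z _ => trivial) fun e => hne <| by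
    have h1 : (⟨x, subset_closure rfl⟩ : (closure {x} : Set X)) ∈ a.carrier := by rw [e]; trivial
    have h2 : y ⤳ x := (subtype_specializes_iff _ _).1 (specializes_iff_mem_closure.2 h1)
    exact (h2.antisymm (specializes_iff_mem_closure.2 hy)).eq
  have h1 : ((1 : ℕ) : WithBot ℕ∞) ≤ ptDim x :=
    le_iSup (fun L : LTSeries (IrreducibleCloseds (closure {x} : Set X)) => (L.length : WithBot ℕ∞))
      ((RelSeries.singleton _ a).snoc b hab)
  rw [h] at h1
  exact absurd (show 1 ≤ 0 by exact_mod_cast h1) (by norm_num)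

theorem eq_of_specializes_of_ptDim_le (f : X ⟶ Spec (CommRingCat.of K)) [LocallyOfFiniteType f] {x y : X}
    (h : x ⤳ y) (hd : ptDim x ≤ ptDim y) : x = y := by
  obtain ⟨_, ⟨U, hU, rfl⟩, hyU, -⟩ :=
    X.isBasis_affineOpens.exists_subset_of_mem_open (Set.mem_univ y) isOpen_univ
  have hU : IsAffineOpen U := hU
  obtain ⟨p, rfl⟩ := hU.range_fromSpec.ge hyU
  obtain ⟨q, rfl⟩ := hU.range_fromSpec.ge (h.mem_open U.2 hyU)
  by_contra hne
  have hle : q.asIdeal ≤ p.asIdeal :=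
    (PrimeSpectrum.le_iff_specializes (R := Γ(X, U)) q p).2 (hU.fromSpec.isEmbedding.isInducing.specializes_iff.1 h)
  have hlt : (⟨q.asIdeal, q.isPrime⟩ : PrimeSpectrum Γ(X, U)) < ⟨p.asIdeal, p.isPrime⟩ :=
    lt_of_le_of_ne hle fun e => hne (congrArg hU.fromSpec e)
  rw [ptDim_fromSpec f hU, ptDim_fromSpec f hU] at hd
  obtain ⟨ψ, hψ, -⟩ := GrothLib.Dim.exists_finiteType_specMap f hU
  algebraize [ψ.hom]
  have : Algebra.FiniteType K Γ(X, U) := hψ
  obtain ⟨n, -, hn⟩ := GrothLib.Dim.exists_nat_trdeg_eq_and_ringKrullDim_eq K (Γ(X, U) ⧸ p.asIdeal)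
  have h1 := Order.coheight_add_one_le hlt
  have e1 := ringKrullDim_quotient_eq_coheight (⟨p.asIdeal, p.isPrime⟩ : PrimeSpectrum Γ(X, U))
  have e2 := ringKrullDim_quotient_eq_coheight (⟨q.asIdeal, q.isPrime⟩ : PrimeSpectrum Γ(X, U))
  rw [e1, e2] at hd
  have hd' := WithBot.coe_le_coe.1 hd
  rw [hn] at e1
  have hc : Order.coheight (⟨p.asIdeal, p.isPrime⟩ : PrimeSpectrum Γ(X, U)) = n :=
    (WithBot.coe_injective (e1 : ((n : ℕ∞) : WithBot ℕ∞) = _)).symm
  rw [hc] at h1 hd'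
  exact absurd (show n + 1 ≤ n by exact_mod_cast h1.trans hd') (by omega)

/-- The affine algebra attached to a point, with a point of the image. -/
theorem exists_generic_opens (qY : Y ⟶ Spec (CommRingCat.of K)) [LocallyOfFiniteType qY] (f : X ⟶ Y)
    [LocallyOfFiniteType f] (η : X) (W : X.Opens) (hη : η ∈ W) :
    ∃ (V : Y.Opens) (U : X.Opens) (e : ℕ), U ≤ W ∧ η ∈ U ∧ f η ∈ V ∧ (∀ z ∈ U, f z ∈ V) ∧
      ptDim η = ptDim (f η) + e ∧
      (∀ z ∈ U, η ⤳ z → ptDim z ≤ ptDim (f z) + e) ∧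
      ∀ y ∈ V, f η ⤳ y → ∃ z ∈ U, η ⤳ z ∧ f z = y ∧ ptDim z = ptDim y + e := by
  obtain ⟨_, ⟨V, hV, rfl⟩, hfV, -⟩ :=
    Y.isBasis_affineOpens.exists_subset_of_mem_open (Set.mem_univ (f η)) isOpen_univ
  have hV : IsAffineOpen V := hV
  obtain ⟨_, ⟨U, hU, rfl⟩, hηU, hUW⟩ := X.isBasis_affineOpens.exists_subset_of_mem_open
    (show η ∈ (W ⊓ f ⁻¹ᵁ V : X.Opens) from ⟨hη, hfV⟩) (W ⊓ f ⁻¹ᵁ V).2
  have hU : IsAffineOpen U := hU
  have hUV : U ≤ f ⁻¹ᵁ V := fun z hz => (hUW hz).2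
  obtain ⟨pη, rfl⟩ := hU.range_fromSpec.ge hηU
  obtain ⟨ψ, hψ, hψ'⟩ := GrothLib.Dim.exists_finiteType_specMap qY hV
  obtain ⟨χ, hχ, hχ'⟩ := GrothLib.Dim.exists_finiteType_specMap (f ≫ qY) hU
  let γ := f.appLE V U hUV
  have hsq : Spec.map γ ≫ hV.fromSpec = hU.fromSpec ≫ f := hV.SpecMap_appLE_fromSpec f hU hUV
  have htri : ψ ≫ γ = χ := Spec.map_injective (by rw [Spec.map_comp, ← hψ', ← Category.assoc, hsq, Category.assoc, hχ'])
  algebraize [ψ.hom, χ.hom, γ.hom]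
  have : IsScalarTower K Γ(Y, V) Γ(X, U) := IsScalarTower.of_algebraMap_eq' (congrArg CommRingCat.Hom.hom htri).symm
  have : Algebra.FiniteType K Γ(Y, V) := hψ
  have : Algebra.FiniteType K Γ(X, U) := hχ
  have hfp : ∀ p : PrimeSpectrum Γ(X, U), f (hU.fromSpec p) = hV.fromSpec (PrimeSpectrum.comap γ.hom p) := fun p => by
    rw [← Scheme.Hom.comp_apply, ← hsq, Scheme.Hom.comp_apply]; rfl
  have hleX : ∀ a b : PrimeSpectrum Γ(X, U), (hU.fromSpec a ⤳ hU.fromSpec b) ↔ a.asIdeal ≤ b.asIdeal := fun a b =>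
    (hU.fromSpec.isEmbedding.isInducing.specializes_iff).trans (PrimeSpectrum.le_iff_specializes a b).symm
  have hleY : ∀ a b : PrimeSpectrum Γ(Y, V), (hV.fromSpec a ⤳ hV.fromSpec b) ↔ a.asIdeal ≤ b.asIdeal := fun a b =>
    (hV.fromSpec.isEmbedding.isInducing.specializes_iff).trans (PrimeSpectrum.le_iff_specializes a b).symm
  let P : Ideal Γ(X, U) := pη.asIdeal
  let P₀ : Ideal Γ(Y, V) := P.comap (algebraMap Γ(Y, V) Γ(X, U))
  have : P.IsPrime := pη.isPrime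
  have : P.LiesOver P₀ := ⟨rfl⟩
  have : IsScalarTower K (Γ(Y, V) ⧸ P₀) (Γ(X, U) ⧸ P) :=
    IsScalarTower.of_algebraMap_eq (R := K) (S := Γ(Y, V) ⧸ P₀) (A := Γ(X, U) ⧸ P) fun x => by
      show Ideal.Quotient.mk P (algebraMap K Γ(X, U) x) =
        Ideal.Quotient.mk P (algebraMap Γ(Y, V) Γ(X, U) (algebraMap K Γ(Y, V) x))
      rw [← IsScalarTower.algebraMap_apply K Γ(Y, V) Γ(X, U)]
  obtain ⟨g, e, hg, hdim, hup, hlow⟩ := exists_generic_fibre_dim K
    (A := Γ(Y, V) ⧸ P₀) (B := Γ(X, U) ⧸ P) Ideal.algebraMap_quotient_injective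
  obtain ⟨g, rfl⟩ := Ideal.Quotient.mk_surjective g
  have hgP : g ∉ P₀ := fun h => hg (Ideal.Quotient.eq_zero_iff_mem.2 h)
  have hmemV : ∀ p : PrimeSpectrum Γ(Y, V), hV.fromSpec p ∈ Y.basicOpen g ↔ g ∉ p.asIdeal := fun p =>
    ⟨fun h => ((hV.fromSpec_preimage_basicOpen g).le h : p ∈ PrimeSpectrum.basicOpen g),
      fun h => (hV.fromSpec_preimage_basicOpen g).ge (show p ∈ PrimeSpectrum.basicOpen g from h)⟩
  have hkey : ∀ p : PrimeSpectrum Γ(X, U), P ≤ p.asIdeal →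
      ∃ q : Ideal (Γ(X, U) ⧸ P), q.IsPrime ∧ q.comap (Ideal.Quotient.mk P) = p.asIdeal ∧
        ringKrullDim ((Γ(X, U) ⧸ P) ⧸ q) = ptDim (hU.fromSpec p) ∧
        ringKrullDim ((Γ(Y, V) ⧸ P₀) ⧸ q.comap (algebraMap (Γ(Y, V) ⧸ P₀) (Γ(X, U) ⧸ P))) =
          ptDim (f (hU.fromSpec p)) := by
    intro p hp
    have hc : (p.asIdeal.map (Ideal.Quotient.mk P)).comap (Ideal.Quotient.mk P) = p.asIdeal := by
      rw [Ideal.comap_map_of_surjective _ Ideal.Quotient.mk_surjective, ← RingHom.ker_eq_comap_bot,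
        Ideal.mk_ker, sup_eq_left.mpr hp]
    refine ⟨p.asIdeal.map (Ideal.Quotient.mk P), Ideal.isPrime_map_quotientMk_of_isPrime hp, hc, ?_, ?_⟩
    · rw [ptDim_fromSpec (f ≫ qY) hU, ringKrullDim_eq_of_ringEquiv (DoubleQuot.quotQuotEquivQuotOfLE hp)]
    · rw [hfp, ptDim_fromSpec qY hV]
      have hp0 : P₀ ≤ (PrimeSpectrum.comap γ.hom p).asIdeal := Ideal.comap_mono hp
      rw [← ringKrullDim_eq_of_ringEquiv (DoubleQuot.quotQuotEquivQuotOfLE hp0)]
      refine ringKrullDim_eq_of_ringEquiv (Ideal.quotEquivOfEq ?_)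
      refine Ideal.comap_injective_of_surjective _ Ideal.Quotient.mk_surjective ?_
      rw [Ideal.comap_map_of_surjective _ Ideal.Quotient.mk_surjective, ← RingHom.ker_eq_comap_bot,
        Ideal.mk_ker, sup_eq_left.mpr hp0, PrimeSpectrum.comap_asIdeal]
      calc _ = ((p.asIdeal.map (Ideal.Quotient.mk P)).comap (Ideal.Quotient.mk P)).comap γ.hom := rfl
        _ = _ := by rw [hc]
  refine ⟨Y.basicOpen g, U ⊓ f ⁻¹ᵁ Y.basicOpen g, e, fun z hz => (hUW hz.1).1, ⟨hηU, ?_⟩, ?_,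
    fun z hz => hz.2, ?_, ?_, ?_⟩
  · show f (hU.fromSpec pη) ∈ Y.basicOpen g
    rw [hfp, hmemV]; exact hgP
  · rw [hfp, hmemV]; exact hgP
  · rw [ptDim_fromSpec (f ≫ qY) hU, hfp, ptDim_fromSpec qY hV]
    exact hdim
  · rintro z ⟨hzU, hzV⟩ hsp
    obtain ⟨p, rfl⟩ := hU.range_fromSpec.ge hzU
    obtain ⟨q, hq, hqc, hq1, hq2⟩ := hkey p ((hleX _ _).1 hsp)
    rw [← hq1, ← hq2]
    refine hup q hq fun h => ?_
    have hg' : g ∉ (PrimeSpectrum.comap γ.hom p).asIdeal := (hmemV _).1 (hfp p ▸ hzV)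
    apply hg'
    show γ.hom g ∈ p.asIdeal
    rw [← hqc]
    exact h
  · intro y hy hsp
    obtain ⟨py, rfl⟩ := hV.range_fromSpec.ge (Y.basicOpen_le g hy)
    rw [hfp, hleY] at hsp
    have hgy := (hmemV _).1 hy
    obtain ⟨q, hq, hqc, hqd⟩ := hlow (py.asIdeal.map (Ideal.Quotient.mk P₀))
      (Ideal.isPrime_map_quotientMk_of_isPrime hsp) (fun h => hgy (by
        have h2 : g ∈ (py.asIdeal.map (Ideal.Quotient.mk P₀)).comap (Ideal.Quotient.mk P₀) := h
        rwa [Ideal.comap_map_of_surjective _ Ideal.Quotient.mk_surjective, ← RingHom.ker_eq_comap_bot,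
          Ideal.mk_ker, sup_eq_left.mpr (show P₀ ≤ py.asIdeal from hsp)] at h2))
    let p : PrimeSpectrum Γ(X, U) := ⟨q.comap (Ideal.Quotient.mk P), inferInstance⟩
    have hPp : P ≤ p.asIdeal := fun a ha => by
      show Ideal.Quotient.mk P a ∈ q
      rw [Ideal.Quotient.eq_zero_iff_mem.2 ha]
      exact q.zero_mem
    have hpy : PrimeSpectrum.comap γ.hom p = py := PrimeSpectrum.ext <| by
      calc _ = (q.comap (algebraMap (Γ(Y, V) ⧸ P₀) (Γ(X, U) ⧸ P))).comap (Ideal.Quotient.mk P₀) := rfl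
        _ = _ := by
          rw [hqc, Ideal.comap_map_of_surjective _ Ideal.Quotient.mk_surjective, ← RingHom.ker_eq_comap_bot,
            Ideal.mk_ker, sup_eq_left.mpr (show P₀ ≤ py.asIdeal from hsp)]
    have hfz : f (hU.fromSpec p) = hV.fromSpec py := by rw [hfp, hpy]
    refine ⟨hU.fromSpec p, ⟨hU.range_fromSpec.le ⟨p, rfl⟩, ?_⟩, (hleX _ _).2 hPp, hfz, ?_⟩
    · show f (hU.fromSpec p) ∈ Y.basicOpen g
      rw [hfz]; exact hy
    · obtain ⟨q', -, hq'c, hq1, hq2⟩ := hkey p hPp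
      have hqq : q' = q := Ideal.comap_injective_of_surjective _ Ideal.Quotient.mk_surjective hq'c
      subst hqq
      rw [← hq1, ← hfz, ← hq2, hqd, hqc]

/-- Closed fibres have dimension at least the generic one. -/
theorem exists_le_dim_over_closedPoint (qY : Y ⟶ Spec (CommRingCat.of K)) [LocallyOfFiniteType qY]
    (f : X ⟶ Y) [LocallyOfFiniteType f] {η z : X} (h : η ⤳ z) (hz : IsClosed ({f z} : Set Y)) :
    ∃ w : X, η ⤳ w ∧ w ⤳ z ∧ f w = f z ∧ ptDim η ≤ ptDim w + ptDim (f η) := by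
  obtain ⟨_, ⟨V, hV, rfl⟩, hfV, -⟩ :=
    Y.isBasis_affineOpens.exists_subset_of_mem_open (Set.mem_univ (f z)) isOpen_univ
  have hV : IsAffineOpen V := hV
  obtain ⟨_, ⟨U, hU, rfl⟩, hzU, hUV⟩ := X.isBasis_affineOpens.exists_subset_of_mem_open
    (show z ∈ f ⁻¹ᵁ V from hfV) (f ⁻¹ᵁ V).2
  have hU : IsAffineOpen U := hU
  obtain ⟨pz, rfl⟩ := hU.range_fromSpec.ge hzU
  obtain ⟨pη, rfl⟩ := hU.range_fromSpec.ge (h.mem_open U.2 hzU)
  obtain ⟨ψ, hψ, hψ'⟩ := GrothLib.Dim.exists_finiteType_specMap qY hV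
  obtain ⟨χ, hχ, hχ'⟩ := GrothLib.Dim.exists_finiteType_specMap (f ≫ qY) hU
  let γ := f.appLE V U hUV
  have hsq : Spec.map γ ≫ hV.fromSpec = hU.fromSpec ≫ f := hV.SpecMap_appLE_fromSpec f hU hUV
  have htri : ψ ≫ γ = χ := Spec.map_injective (by rw [Spec.map_comp, ← hψ', ← Category.assoc, hsq, Category.assoc, hχ'])
  algebraize [ψ.hom, χ.hom, γ.hom]
  have : IsScalarTower K Γ(Y, V) Γ(X, U) := IsScalarTower.of_algebraMap_eq' (congrArg CommRingCat.Hom.hom htri).symm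
  have : Algebra.FiniteType K Γ(Y, V) := hψ
  have : Algebra.FiniteType K Γ(X, U) := hχ
  have hfp : ∀ p : PrimeSpectrum Γ(X, U), f (hU.fromSpec p) = hV.fromSpec (PrimeSpectrum.comap γ.hom p) := fun p => by
    rw [← Scheme.Hom.comp_apply, ← hsq, Scheme.Hom.comp_apply]; rfl
  have hleX : ∀ a b : PrimeSpectrum Γ(X, U), (hU.fromSpec a ⤳ hU.fromSpec b) ↔ a.asIdeal ≤ b.asIdeal := fun a b =>
    (hU.fromSpec.isEmbedding.isInducing.specializes_iff).trans (PrimeSpectrum.le_iff_specializes a b).symm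
  let P : Ideal Γ(X, U) := pη.asIdeal
  let P₀ : Ideal Γ(Y, V) := P.comap (algebraMap Γ(Y, V) Γ(X, U))
  have : P.IsPrime := pη.isPrime
  have : P.LiesOver P₀ := ⟨rfl⟩
  have hPz : P ≤ pz.asIdeal := (hleX _ _).1 h
  let m : Ideal Γ(Y, V) := (PrimeSpectrum.comap γ.hom pz).asIdeal
  have hm : m.IsMaximal := by
    apply (PrimeSpectrum.isClosed_singleton_iff_isMaximal (PrimeSpectrum.comap γ.hom pz)).1
    have h1 := hz.preimage hV.fromSpec.continuous
    rw [hfp, show hV.fromSpec ⁻¹' {hV.fromSpec (PrimeSpectrum.comap γ.hom pz)} = {PrimeSpectrum.comap γ.hom pz} from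
      Set.ext fun b => ⟨fun hb => hV.fromSpec.isOpenEmbedding.injective hb, fun hb => congrArg hV.fromSpec hb⟩] at h1
    exact h1
  have hm0 : P₀ ≤ m := Ideal.comap_mono hPz
  have hm' : (m.map (Ideal.Quotient.mk P₀)).IsMaximal :=
    Ideal.IsMaximal.map_of_surjective_of_ker_le Ideal.Quotient.mk_surjective (by rw [Ideal.mk_ker]; exact hm0)
  have hn' : (pz.asIdeal.map (Ideal.Quotient.mk P)).IsPrime := Ideal.isPrime_map_quotientMk_of_isPrime hPz
  have hc : (pz.asIdeal.map (Ideal.Quotient.mk P)).comap (Ideal.Quotient.mk P) = pz.asIdeal := by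
    rw [Ideal.comap_map_of_surjective _ Ideal.Quotient.mk_surjective, ← RingHom.ker_eq_comap_bot,
      Ideal.mk_ker, sup_eq_left.mpr hPz]
  obtain ⟨q, hq, hqn, hqm, hd⟩ := exists_le_dim_over_maximal K (A := Γ(Y, V) ⧸ P₀) (B := Γ(X, U) ⧸ P)
    (m.map (Ideal.Quotient.mk P₀)) (pz.asIdeal.map (Ideal.Quotient.mk P)) (by
      refine Ideal.comap_injective_of_surjective _ Ideal.Quotient.mk_surjective ?_
      rw [Ideal.comap_map_of_surjective _ Ideal.Quotient.mk_surjective, ← RingHom.ker_eq_comap_bot,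
        Ideal.mk_ker, sup_eq_left.mpr hm0]
      calc _ = ((pz.asIdeal.map (Ideal.Quotient.mk P)).comap (Ideal.Quotient.mk P)).comap γ.hom := rfl
        _ = _ := by rw [hc]; rfl)
  let p : PrimeSpectrum Γ(X, U) := ⟨q.comap (Ideal.Quotient.mk P), inferInstance⟩
  have hPp : P ≤ p.asIdeal := fun a ha => by
    show Ideal.Quotient.mk P a ∈ q
    rw [Ideal.Quotient.eq_zero_iff_mem.2 ha]
    exact q.zero_mem
  have hpm : PrimeSpectrum.comap γ.hom p = PrimeSpectrum.comap γ.hom pz := PrimeSpectrum.ext <| by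
    calc _ = (q.comap (algebraMap (Γ(Y, V) ⧸ P₀) (Γ(X, U) ⧸ P))).comap (Ideal.Quotient.mk P₀) := rfl
      _ = _ := by
        rw [hqm, Ideal.comap_map_of_surjective _ Ideal.Quotient.mk_surjective, ← RingHom.ker_eq_comap_bot,
          Ideal.mk_ker, sup_eq_left.mpr hm0]
  refine ⟨hU.fromSpec p, (hleX _ _).2 hPp, (hleX _ _).2 (hc ▸ Ideal.comap_mono hqn), by rw [hfp, hfp, hpm], ?_⟩
  rw [ptDim_fromSpec (f ≫ qY) hU, ptDim_fromSpec (f ≫ qY) hU, hfp, ptDim_fromSpec qY hV]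
  refine hd.trans (add_le_add (le_of_eq ?_) le_rfl)
  refine ringKrullDim_eq_of_ringEquiv ?_
  refine (Ideal.quotEquivOfEq (Ideal.map_comap_of_surjective _ Ideal.Quotient.mk_surjective q).symm).trans ?_
  exact DoubleQuot.quotQuotEquivQuotOfLE hPp

end GrothLib.AffDom
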