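import Groth.Agent.Lib.AffDom.Formula
import Groth.Agent.Lib.Dim.Morphism
import Mathlib.RingTheory.Localization.Integral
import Mathlib.RingTheory.MvPolynomial.Localization
import Mathlib.RingTheory.RingHom.Finite
import Mathlib.RingTheory.Polynomial.Quotient

/-!
Fibres of an injection of affine domains over a nonempty open.
-/

universe u

open scoped TensorProduct

namespace GrothLib.AffDom

variable (k : Type u) [Field k] {A B : Type u} [CommRing A] [CommRing B] [IsDomain A] [IsDomain B]
  [Algebra k A] [Algebra k B] [Algebra A B] [IsScalarTower k A B] [Algebra.FiniteType k A]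
  [Algebra.FiniteType k B]

omit [Algebra.FiniteType k A] in
attribute [local instance] MvPolynomial.algebraMvPolynomial in
include k in
/-- Generic Noether normalization of an injection of affine domains. -/
theorem exists_generic_normalization (h : Function.Injective (algebraMap A B)) :
    ∃ (g : A) (e : ℕ) (φ : MvPolynomial (Fin e) A →ₐ[A] B), g ≠ 0 ∧ Function.Injective φ ∧
      ∀ b : B, ∃ N : ℕ, φ.toRingHom.IsIntegralElem (g ^ N • b) := by
  classical
  let M := Algebra.algebraMapSubmonoid B (nonZeroDivisors A)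
  let C := Localization M
  let F := FractionRing A
  have hM : M ≤ nonZeroDivisors B := by
    rintro _ ⟨a, ha, rfl⟩
    exact mem_nonZeroDivisors_of_ne_zero fun h0 => nonZeroDivisors.ne_zero ha (h (by rw [h0, map_zero]))
  have : IsDomain C := IsLocalization.isDomain_of_le_nonZeroDivisors (M := M) (S := C) (R := B) hM
  let algFC : Algebra F C := localizationAlgebra (nonZeroDivisors A) B
  have tow : IsScalarTower A F C := IsScalarTower.of_algebraMap_eq fun a => by
    change algebraMap A C a = IsLocalization.map C (algebraMap A B)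
      (show nonZeroDivisors A ≤ M.comap (algebraMap A B) from Submonoid.le_comap_map _) (algebraMap A F a)
    rw [IsLocalization.map_eq, IsScalarTower.algebraMap_apply A B C]
  have : Algebra.FiniteType A B := Algebra.FiniteType.of_restrictScalars_finiteType k A B
  have : Algebra.FiniteType F C := by
    have : Algebra.IsPushout A B F C := Algebra.isPushout_of_isLocalization (nonZeroDivisors A) F B C
    have : Algebra.IsPushout A F B C := Algebra.IsPushout.symm inferInstance
    exact Algebra.FiniteType.equiv inferInstance (Algebra.IsPushout.equiv A F B C)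
  obtain ⟨e, G, hGinj, hGfin⟩ := exists_finite_inj_algHom_of_fg F C
  have hex : ∀ i, ∃ b : B, ∃ a : A, a ≠ 0 ∧ algebraMap B C b = algebraMap A F a • G (MvPolynomial.X i) := by
    intro i
    obtain ⟨⟨b, ⟨_, a, ha, rfl⟩⟩, hb⟩ := IsLocalization.surj M (G (MvPolynomial.X i))
    refine ⟨b, a, nonZeroDivisors.ne_zero ha, ?_⟩
    rw [Algebra.smul_def, ← IsScalarTower.algebraMap_apply A F C, IsScalarTower.algebraMap_apply A B C,
      ← hb, mul_comm]
  choose t a ha ht using hex
  let φ : MvPolynomial (Fin e) A →ₐ[A] B := MvPolynomial.aeval t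
  let σ : MvPolynomial (Fin e) F →ₐ[F] MvPolynomial (Fin e) F :=
    MvPolynomial.aeval fun i => algebraMap A F (a i) • MvPolynomial.X i
  let τ : MvPolynomial (Fin e) F →ₐ[F] MvPolynomial (Fin e) F :=
    MvPolynomial.aeval fun i => (algebraMap A F (a i))⁻¹ • MvPolynomial.X i
  have ha' : ∀ i, algebraMap A F (a i) ≠ 0 := fun i => fun h0 =>
    ha i (IsFractionRing.injective A F (h0.trans (map_zero _).symm))
  have hστ : ∀ p, σ (τ p) = p := fun p => by
    rw [← AlgHom.comp_apply, show σ.comp τ = AlgHom.id F _ from MvPolynomial.algHom_ext fun i => by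
      simp only [σ, τ, AlgHom.comp_apply, MvPolynomial.aeval_X, map_smul, AlgHom.id_apply, smul_smul]
      rw [inv_mul_cancel₀ (ha' i), one_smul]]
    rfl
  have hτσ : ∀ p, τ (σ p) = p := fun p => by
    rw [← AlgHom.comp_apply, show τ.comp σ = AlgHom.id F _ from MvPolynomial.algHom_ext fun i => by
      simp only [σ, τ, AlgHom.comp_apply, MvPolynomial.aeval_X, map_smul, AlgHom.id_apply, smul_smul]
      rw [mul_inv_cancel₀ (ha' i), one_smul]]
    rfl
  let ψ := G.comp σ
  have hψinj : Function.Injective ψ := hGinj.comp (Function.LeftInverse.injective hτσ)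
  have hψfin : ψ.toRingHom.Finite := RingHom.Finite.comp hGfin
    (RingHom.Finite.of_surjective σ.toRingHom fun p => ⟨τ p, hστ p⟩)
  let R := MvPolynomial (Fin e) A
  let S := MvPolynomial (Fin e) F
  have hcomp : ∀ p : R, ψ (algebraMap R S p) = algebraMap B C (φ p) := by
    intro p
    have : (ψ.toRingHom.comp (algebraMap R S)) = (algebraMap B C).comp φ.toRingHom := by
      refine MvPolynomial.ringHom_ext (fun c => ?_) fun i => ?_
      · show G (σ (MvPolynomial.map (algebraMap A F) (MvPolynomial.C c))) = algebraMap B C (φ (MvPolynomial.C c))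
        rw [MvPolynomial.map_C, show φ (MvPolynomial.C c) = algebraMap A B c from φ.commutes c,
          show σ (MvPolynomial.C (algebraMap A F c)) = MvPolynomial.C (algebraMap A F c) from σ.commutes _,
          show G (MvPolynomial.C (algebraMap A F c)) = algebraMap F C (algebraMap A F c) from G.commutes _,
          ← IsScalarTower.algebraMap_apply A F C, ← IsScalarTower.algebraMap_apply A B C]
      · show G (σ (MvPolynomial.map (algebraMap A F) (MvPolynomial.X i))) = algebraMap B C (φ (MvPolynomial.X i))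
        rw [MvPolynomial.map_X, show φ (MvPolynomial.X i) = t i from MvPolynomial.aeval_X t i,
          show σ (MvPolynomial.X i) = algebraMap A F (a i) • MvPolynomial.X i from MvPolynomial.aeval_X _ i,
          map_smul, ht]
    exact RingHom.congr_fun this p
  have hφinj : Function.Injective φ := by
    intro p q hpq
    have h1 : ψ (algebraMap R S p) = ψ (algebraMap R S q) := by rw [hcomp, hcomp, hpq]
    exact MvPolynomial.map_injective (algebraMap A F) (IsFractionRing.injective A F) (hψinj h1)
  let _ : Algebra S C := ψ.toRingHom.toAlgebra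
  let _ : Algebra R C := ((algebraMap B C).comp φ.toRingHom).toAlgebra
  have : IsScalarTower R S C := IsScalarTower.of_algebraMap_eq fun p => (hcomp p).symm
  have : Module.Finite S C := hψfin
  have hint : ∀ b : B, ∃ c : A, c ≠ 0 ∧ φ.toRingHom.IsIntegralElem (c • b) := by
    intro b
    obtain ⟨⟨_, c, hc, rfl⟩, hm⟩ := IsIntegral.exists_multiple_integral_of_isLocalization
      ((nonZeroDivisors A).map (MvPolynomial.C (σ := Fin e))) (algebraMap B C b)
      (Algebra.IsIntegral.isIntegral (R := S) _)
    refine ⟨c, nonZeroDivisors.ne_zero hc, ?_⟩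
    have hsm : (MvPolynomial.C c : R) • algebraMap B C b = algebraMap B C (c • b) := by
      rw [Algebra.smul_def, Algebra.smul_def, map_mul]
      congr 1
      show algebraMap B C (φ (MvPolynomial.C c)) = _
      simp [φ]
    obtain ⟨P, hP, hP0⟩ := hm
    refine ⟨P, hP, IsLocalization.injective C hM ?_⟩
    rw [Polynomial.hom_eval₂, map_zero, ← hsm]
    exact hP0
  obtain ⟨s, hs⟩ := Algebra.FiniteType.out (R := A) (A := B)
  choose c hc hcint using hint
  refine ⟨∏ b ∈ s, c b, e, φ, Finset.prod_ne_zero_iff.2 fun b _ => hc b, hφinj, fun b => ?_⟩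
  let g := ∏ b ∈ s, c b
  let _ : Algebra R B := φ.toRingHom.toAlgebra
  have hmul : ∀ (d : A) (x : B), IsIntegral R x → IsIntegral R (d • x) := fun d x hx => by
    rw [show d • x = (MvPolynomial.C d : R) • x by
      rw [Algebra.smul_def, Algebra.smul_def]; congr 1; exact (MvPolynomial.aeval_C t d).symm]
    exact hx.smul _
  have hb : b ∈ Algebra.adjoin A (s : Set B) := hs ▸ Algebra.mem_top
  change ∃ N : ℕ, IsIntegral R (g ^ N • b)
  induction hb using Algebra.adjoin_induction with
  | mem x hx =>
    refine ⟨1, ?_⟩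
    rw [pow_one, show g = (∏ b ∈ s.erase x, c b) * c x from (Finset.prod_erase_mul s c hx).symm, mul_smul]
    exact hmul _ _ (hcint x)
  | algebraMap d => exact ⟨0, by
      rw [pow_zero, one_smul]
      have : algebraMap A B d = algebraMap R B (MvPolynomial.C d) := (MvPolynomial.aeval_C t d).symm
      rw [this]; exact isIntegral_algebraMap⟩
  | add x y _ _ hx hy =>
    obtain ⟨N, hN⟩ := hx
    obtain ⟨N', hN'⟩ := hy
    refine ⟨N + N', ?_⟩
    rw [smul_add]
    refine IsIntegral.add ?_ ?_
    · rw [pow_add, mul_comm, mul_smul]; exact hmul _ _ hN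
    · rw [pow_add, mul_smul]; exact hmul _ _ hN'
  | mul x y _ _ hx hy =>
    obtain ⟨N, hN⟩ := hx
    obtain ⟨N', hN'⟩ := hy
    refine ⟨N + N', ?_⟩
    rw [pow_add, ← smul_mul_smul_comm]
    exact hN.mul hN'

include k in
/-- Over a nonempty open the fibres of an injection of affine domains have the generic dimension. -/
theorem exists_generic_fibre_dim (h : Function.Injective (algebraMap A B)) :
    ∃ (g : A) (e : ℕ), g ≠ 0 ∧ ringKrullDim B = ringKrullDim A + e ∧
      (∀ q : Ideal B, q.IsPrime → g ∉ q.comap (algebraMap A B) →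
        ringKrullDim (B ⧸ q) ≤ ringKrullDim (A ⧸ q.comap (algebraMap A B)) + e) ∧
      ∀ Q : Ideal A, Q.IsPrime → g ∉ Q → ∃ q : Ideal B, q.IsPrime ∧ q.comap (algebraMap A B) = Q ∧
        ringKrullDim (B ⧸ q) = ringKrullDim (A ⧸ Q) + e := by
  classical
  obtain ⟨g, e, φ, hg, hinj, hint⟩ := exists_generic_normalization k h
  let R := MvPolynomial (Fin e) A
  have hφC : ∀ a : A, φ (MvPolynomial.C a) = algebraMap A B a := fun a => φ.commutes a
  let _ : Algebra R B := φ.toRingHom.toAlgebra
  have : IsScalarTower A R B := IsScalarTower.of_algebraMap_eq fun a => (hφC a).symm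
  have : IsScalarTower k R B := IsScalarTower.of_algebraMap_eq fun x => by
    show algebraMap k B x = φ (MvPolynomial.C (algebraMap k A x))
    rw [hφC, ← IsScalarTower.algebraMap_apply k A B]
  have : Algebra.FiniteType k R := Algebra.FiniteType.trans (S := A) ‹_› inferInstance
  have : IsNoetherianRing A := Algebra.FiniteType.isNoetherianRing k A
  have key : ∀ q : Ideal B, q.IsPrime → g ∉ q.comap (algebraMap A B) →
      ringKrullDim (B ⧸ q) = ringKrullDim (R ⧸ q.comap (algebraMap R B)) := by
    intro q hq hgq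
    let P := q.comap (algebraMap R B)
    have : P.IsPrime := Ideal.comap_isPrime _ _
    have : q.LiesOver P := ⟨rfl⟩
    have : FaithfulSMul (R ⧸ P) (B ⧸ q) :=
      (faithfulSMul_iff_algebraMap_injective _ _).2 Ideal.algebraMap_quotient_injective
    have : IsScalarTower k (R ⧸ P) (B ⧸ q) := IsScalarTower.of_algebraMap_eq (R := k) (S := R ⧸ P) (A := B ⧸ q) fun x => by
      show Ideal.Quotient.mk q (algebraMap k B x) = Ideal.Quotient.mk q (algebraMap R B (algebraMap k R x))
      rw [← IsScalarTower.algebraMap_apply k R B]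
    have : Algebra.IsAlgebraic (R ⧸ P) (B ⧸ q) := ⟨fun x => by
      obtain ⟨b, rfl⟩ := Ideal.Quotient.mk_surjective x
      obtain ⟨N, p, hp, hp0⟩ := hint b
      let c : R ⧸ P := Ideal.Quotient.mk P (MvPolynomial.C (g ^ N))
      have hc : c ≠ 0 := by
        intro h0
        rw [Ideal.Quotient.eq_zero_iff_mem] at h0
        refine hgq (Ideal.IsPrime.mem_of_pow_mem inferInstance N ?_)
        have h1 : φ (MvPolynomial.C (g ^ N)) ∈ q := h0
        rwa [hφC] at h1
      refine ⟨(p.map (Ideal.Quotient.mk P)).comp (Polynomial.C c * Polynomial.X), ?_, ?_⟩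
      · intro h0
        rcases Polynomial.comp_eq_zero_iff.1 h0 with h1 | ⟨-, h1⟩
        · exact (hp.map (Ideal.Quotient.mk P)).ne_zero h1
        · have := congrArg (fun p => Polynomial.coeff p 1) h1
          simp [hc] at this
      · rw [Polynomial.aeval_comp, map_mul, Polynomial.aeval_C, Polynomial.aeval_X, Polynomial.aeval_def,
          Polynomial.eval₂_map]
        have h2 : algebraMap (R ⧸ P) (B ⧸ q) c * Ideal.Quotient.mk q b = Ideal.Quotient.mk q (g ^ N • b) := by
          rw [Algebra.smul_def, map_mul, ← hφC]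
          rfl
        rw [h2]
        have h3 := congrArg (Ideal.Quotient.mk q) hp0
        rw [Polynomial.hom_eval₂, map_zero] at h3
        exact h3⟩
    obtain ⟨n, hn, hn'⟩ := GrothLib.Dim.exists_nat_trdeg_eq_and_ringKrullDim_eq k (R ⧸ P)
    obtain ⟨m, hm, hm'⟩ := GrothLib.Dim.exists_nat_trdeg_eq_and_ringKrullDim_eq k (B ⧸ q)
    have e1 := GrothLib.Dim.trdeg_eq_of_algebraic (k := k) (A := R ⧸ P) (B := B ⧸ q)
    rw [hm, hn] at e1
    rw [hm', hn', Nat.cast_injective e1]
  have hpoly : ∀ Q : Ideal A,
      ringKrullDim (R ⧸ Q.map (MvPolynomial.C : A →+* R)) = ringKrullDim (A ⧸ Q) + e := fun Q => by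
    rw [← ringKrullDim_eq_of_ringEquiv (MvPolynomial.quotientEquivQuotientMvPolynomial (σ := Fin e) Q).toRingEquiv,
      MvPolynomial.ringKrullDim_of_isNoetherianRing, Nat.card_fin]
  have hCle : ∀ q : Ideal B, (q.comap (algebraMap A B)).map (MvPolynomial.C : A →+* R) ≤ q.comap (algebraMap R B) :=
    fun q => Ideal.map_le_iff_le_comap.2 fun a ha => by
      show φ (MvPolynomial.C a) ∈ q
      rw [hφC]; exact ha
  refine ⟨g, e, hg, ?_, fun q hq hgq => ?_, fun Q hQ hgQ => ?_⟩
  · have hb : (⊥ : Ideal B).IsPrime := Ideal.isPrime_bot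
    have h1 := key ⊥ hb (by
      rw [Ideal.comap_bot_of_injective _ h]
      exact fun hh => hg (Ideal.mem_bot.1 hh))
    rw [ringKrullDim_eq_of_ringEquiv (RingEquiv.quotientBot B), Ideal.comap_bot_of_injective (algebraMap R B) hinj,
      ringKrullDim_eq_of_ringEquiv (RingEquiv.quotientBot R)] at h1
    rw [h1, MvPolynomial.ringKrullDim_of_isNoetherianRing, Nat.card_fin]
  · rw [key q hq hgq, ← hpoly]
    exact ringKrullDim_le_of_surjective (Ideal.Quotient.factor (hCle q)) (Ideal.Quotient.factor_surjective _)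
  · let T := integralClosure R B
    let P : Ideal R := Q.map (MvPolynomial.C : A →+* R)
    have hP : P.IsPrime := by
      have : IsDomain (R ⧸ P) :=
        (MvPolynomial.quotientEquivQuotientMvPolynomial (σ := Fin e) Q).toRingEquiv.symm.toMulEquiv.isDomain _
      exact (Ideal.Quotient.isDomain_iff_prime P).1 this
    have hPc : ∀ a : A, (MvPolynomial.C a : R) ∈ P ↔ a ∈ Q := fun a => by
      refine ⟨fun ha => ?_, fun ha => Ideal.mem_map_of_mem _ ha⟩
      simpa using (MvPolynomial.mem_map_C_iff.1 ha 0)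
    obtain ⟨r, -, hr, hrP⟩ := Ideal.exists_ideal_over_prime_of_isIntegral (R := R) (S := T) P ⊥ (by
      rw [Ideal.comap_bot_of_injective _ (fun x y hxy => hinj (congrArg Subtype.val hxy))]
      exact bot_le)
    let Sm : Submonoid B := Submonoid.map T.val.toRingHom r.primeCompl
    have hgT : ∀ N : ℕ, algebraMap A B (g ^ N) ∈ T := fun N => by
      rw [IsScalarTower.algebraMap_apply A R B]
      exact isIntegral_algebraMap
    have hgr : ∀ N : ℕ, (⟨_, hgT N⟩ : T) ∉ r := fun N hN => by
      refine hgQ (hQ.mem_of_pow_mem N ?_)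
      rw [← hPc, ← hrP]
      show algebraMap R T (MvPolynomial.C (g ^ N)) ∈ r
      convert hN using 1
      exact Subtype.ext (hφC _)
    have claim : ∀ b ∈ r.map T.val.toRingHom, ∃ N : ℕ, ∀ hm : algebraMap A B (g ^ N) * b ∈ T,
        (⟨_, hm⟩ : T) ∈ r := by
      intro b hb
      suffices h0 : ∃ (N : ℕ) (x : T), x ∈ r ∧ algebraMap A B (g ^ N) * b = x by
        obtain ⟨N, x, hx, hxe⟩ := h0
        exact ⟨N, fun hm => by convert hx using 1; exact Subtype.ext hxe⟩
      refine Submodule.span_induction ?_ ?_ ?_ ?_ hb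
      · rintro _ ⟨x, hx, rfl⟩
        exact ⟨0, x, hx, by simp⟩
      · exact ⟨0, 0, r.zero_mem, by simp⟩
      · rintro u v _ _ ⟨N, x, hx, hxe⟩ ⟨N', y, hy, hye⟩
        refine ⟨N + N', ⟨_, hgT N'⟩ * x + ⟨_, hgT N⟩ * y, r.add_mem (r.mul_mem_left _ hx) (r.mul_mem_left _ hy), ?_⟩
        show _ = algebraMap A B (g ^ N') * x.1 + algebraMap A B (g ^ N) * y.1
        rw [← hxe, ← hye, pow_add, map_mul]
        ring
      · rintro d u _ ⟨N, x, hx, hxe⟩
        obtain ⟨N', hN'⟩ := hint d
        refine ⟨N + N', ⟨g ^ N' • d, hN'⟩ * x, r.mul_mem_left _ hx, ?_⟩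
        show _ = (g ^ N' • d) * x.1
        rw [← hxe, smul_eq_mul, Algebra.smul_def, pow_add, map_mul]
        ring
    have hdisj : Disjoint (r.map T.val.toRingHom : Set B) Sm := by
      refine Set.disjoint_left.2 fun b hb => ?_
      rintro ⟨x, hx, rfl⟩
      obtain ⟨N, hN⟩ := claim _ hb
      have hm : algebraMap A B (g ^ N) * x.1 ∈ T := T.mul_mem (hgT N) x.2
      rcases hr.mem_or_mem (x := (⟨_, hgT N⟩ : T)) (y := x) (hN hm) with h1 | h1
      · exact hgr N h1
      · exact hx h1
    obtain ⟨q, hq, hle, hqd⟩ := Ideal.exists_le_prime_disjoint _ Sm hdisj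
    have hqT : ∀ x : T, (x.1 ∈ q ↔ x ∈ r) := fun x => by
      refine ⟨fun hx => ?_, fun hx => hle (Ideal.mem_map_of_mem T.val.toRingHom hx)⟩
      by_contra hne
      exact Set.disjoint_left.1 hqd hx ⟨x, hne, rfl⟩
    have hqR : q.comap (algebraMap R B) = P := by
      ext p
      rw [← hrP, Ideal.mem_comap, Ideal.mem_comap]
      exact hqT (algebraMap R T p)
    have hqA : q.comap (algebraMap A B) = Q := by
      ext a
      rw [← hPc, ← hqR, Ideal.mem_comap, Ideal.mem_comap]
      show algebraMap A B a ∈ q ↔ φ (MvPolynomial.C a) ∈ q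
      rw [hφC]
    exact ⟨q, hq, hqA, by rw [key q hq (hqA ▸ hgQ), hqR, hpoly]⟩

omit [IsDomain A] [IsScalarTower k A B] in
include k in
/-- Through every point of a closed fibre there is a piece of dimension at least the generic one. -/
theorem exists_le_dim_over_maximal (m : Ideal A) [m.IsMaximal] (n : Ideal B) [n.IsPrime]
    (hn : n.comap (algebraMap A B) = m) :
    ∃ q : Ideal B, q.IsPrime ∧ q ≤ n ∧ q.comap (algebraMap A B) = m ∧
      ringKrullDim B ≤ ringKrullDim (B ⧸ q) + ringKrullDim A := by
  classical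
  have : IsNoetherianRing A := Algebra.FiniteType.isNoetherianRing k A
  have : IsNoetherianRing B := Algebra.FiniteType.isNoetherianRing k B
  obtain ⟨s, hs, hcard⟩ := Ideal.exists_finset_card_eq_height_of_isNoetherianRing m
  obtain ⟨q, hq, hqn⟩ := Ideal.exists_minimalPrimes_le (I := Ideal.span ((s.image (algebraMap A B) : Finset B) : Set B))
    (J := n) (Ideal.span_le.2 fun b hb => by
      obtain ⟨a, ha, rfl⟩ := Finset.mem_image.1 hb
      exact (hn ▸ hs.1.2 (Ideal.subset_span ha) : a ∈ n.comap (algebraMap A B)))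
  have := hq.1.1
  refine ⟨q, hq.1.1, hqn, ?_, ?_⟩
  · have h1 : Ideal.span (s : Set A) ≤ q.comap (algebraMap A B) := Ideal.span_le.2 fun a ha =>
      hq.1.2 (Ideal.subset_span (Finset.mem_coe.2 (Finset.mem_image_of_mem _ ha)))
    exact le_antisymm (hn ▸ Ideal.comap_mono hqn) (hs.2 ⟨Ideal.comap_isPrime _ _, h1⟩ (hn ▸ Ideal.comap_mono hqn))
  · rw [← height_add_ringKrullDim_quotient k B q, add_comm]
    refine add_le_add le_rfl (le_trans ?_ (Ideal.height_le_ringKrullDim_of_ne_top (I := m) Ideal.IsPrime.ne_top'))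
    rw [← hcard]
    exact_mod_cast (Ideal.height_le_card_of_mem_minimalPrimes_span_finset hq).trans
      (by exact_mod_cast Finset.card_image_le)

end GrothLib.AffDom
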