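import Groth.Agent.Lib.AffDom.FibreDim
import Mathlib.AlgebraicGeometry.Noetherian
import Mathlib.Topology.JacobsonSpace
import Groth.Agent.Lib.LocNoeth.Scheme

/-!
Morphisms of varieties whose closed fibres are irreducible of constant dimension.
-/

universe u

open CategoryTheory Limits AlgebraicGeometry TopologicalSpace Topology

namespace GrothLib.AffDom

variable {K : Type u} [Field K] {X Y : Scheme.{u}}

theorem closure_image_closure_singleton (f : X ⟶ Y) (η : X) :
    closure (f '' closure {η}) = closure {f η} := by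
  rw [closure_image_closure f.continuous, Set.image_singleton]

theorem exists_generic_of_fibre (f : X ⟶ Y) {d : ℕ} {y : Y} (hy : IsClosed ({y} : Set Y))
    (hirr : IsIrreducible (f ⁻¹' {y})) (hdim : topologicalKrullDim ↥(f ⁻¹' {y}) = (d : WithBot ℕ∞)) :
    ∃ ω, f ω = y ∧ (∀ z, f z = y → ω ⤳ z) ∧ ptDim ω = d := by
  have hω := hirr.isGenericPoint_genericPoint (hy.preimage f.continuous)
  refine ⟨hirr.genericPoint, hω.mem, fun z hz => hω.specializes hz, ?_⟩
  rw [ptDim, hω.def, hdim]

/-- An open neighbourhood of the generic point of a component lying in that component only. -/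
theorem exists_open_of_component [AlgebraicGeometry.IsNoetherian X] {η : X}
    (hη : closure {η} ∈ irreducibleComponents X) :
    ∃ W : X.Opens, η ∈ W ∧ ∀ z ∈ W, η ⤳ z := by
  have hfin := finite_irreducibleComponents_of_isNoetherian (X := X)
  let C : Set X := ⋃ Z ∈ irreducibleComponents X \ {closure {η}}, Z
  have hC : IsClosed C := (hfin.subset Set.sdiff_subset).isClosed_biUnion
    fun Z hZ => isClosed_of_mem_irreducibleComponents Z hZ.1
  refine ⟨⟨Cᶜ, hC.isOpen_compl⟩, ?_, fun z hz => ?_⟩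
  · intro h
    obtain ⟨Z, ⟨hZ, hne⟩, hηZ⟩ := Set.mem_iUnion₂.1 h
    have h1 : closure {η} ⊆ Z :=
      closure_minimal (Set.singleton_subset_iff.2 hηZ) (isClosed_of_mem_irreducibleComponents Z hZ)
    exact hne (Set.Subset.antisymm (hη.2 hZ.1 h1) h1)
  · obtain ⟨Z, hZ, hzZ⟩ := exists_mem_irreducibleComponents_subset_of_isIrreducible {z} isIrreducible_singleton
    by_contra hne
    refine hz (Set.mem_iUnion₂.2 ⟨Z, ⟨hZ, fun e => hne ?_⟩, hzZ rfl⟩)
    rw [Set.mem_singleton_iff] at e
    exact specializes_iff_mem_closure.2 (e ▸ hzZ rfl)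

/-- The components of a scheme with irreducible closed fibres of constant dimension. -/
theorem component_data (qY : Y ⟶ Spec (CommRingCat.of K)) [LocallyOfFiniteType qY] (f : X ⟶ Y)
    [LocallyOfFiniteType f] [AlgebraicGeometry.IsNoetherian X] {d : ℕ}
    (hfib : ∀ y : Y, IsClosed ({y} : Set Y) →
      ∃ ω, f ω = y ∧ (∀ z, f z = y → ω ⤳ z) ∧ ptDim ω = d)
    {η : X} (hη : closure {η} ∈ irreducibleComponents X) :
    ptDim η = ptDim (f η) + d ∧
      ∀ y : Y, IsClosed ({y} : Set Y) → ∀ z, η ⤳ z → f z = y → ∀ z', f z' = y → η ⤳ z' := by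
  have : JacobsonSpace Y := LocallyOfFiniteType.jacobsonSpace qY
  obtain ⟨W, hηW, hW⟩ := exists_open_of_component hη
  obtain ⟨V, U, e, hUW, hηU, hfV, hUV, hdim, hup, hlow⟩ := exists_generic_opens qY f η W hηW
  obtain ⟨y, ⟨hyV, hysp⟩, hy⟩ := nonempty_inter_closedPoints (Z := (V : Set Y) ∩ closure {f η})
    ⟨f η, hfV, subset_closure rfl⟩ (V.2.isLocallyClosed.inter isClosed_closure.isLocallyClosed)
  have hy' : IsClosed ({y} : Set Y) := hy
  obtain ⟨z, hzU, -, hfz, hzd⟩ := hlow y hyV (specializes_iff_mem_closure.2 hysp)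
  obtain ⟨ω, hωy, hω, hωd⟩ := hfib y hy'
  have hωU : ω ∈ U := (hω z hfz).mem_open U.2 hzU
  have h1 : ptDim ω ≤ ptDim (f ω) + e := hup ω hωU (hW ω (hUW hωU))
  have h2 : ptDim z ≤ ptDim ω := ptDim_mono (hω z hfz)
  rw [hωd, hωy, ptDim_closedPoint hy', zero_add] at h1
  rw [hzd, hωd, ptDim_closedPoint hy', zero_add] at h2
  have hde : e = d := le_antisymm (by exact_mod_cast h2) (by exact_mod_cast h1)
  subst hde
  refine ⟨hdim, fun y' hy'' z' hz' hfz' z'' hfz'' => ?_⟩
  obtain ⟨w, hηw, -, hfw, hwd⟩ := exists_le_dim_over_closedPoint qY f hz' (hfz' ▸ hy'')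
  obtain ⟨ω', hω'y, hω', hω'd⟩ := hfib y' hy''
  obtain ⟨a, ha⟩ := exists_nat_ptDim qY (f η)
  obtain ⟨b, hb⟩ := exists_nat_ptDim (f ≫ qY) w
  rw [hdim, ha, hb] at hwd
  have h3 : ptDim ω' ≤ ptDim w := by
    rw [hω'd, hb]
    have : a + e ≤ b + a := by exact_mod_cast hwd
    exact_mod_cast (show e ≤ b by omega)
  have hωw := eq_of_specializes_of_ptDim_le (f ≫ qY) (hω' w (hfw.trans hfz')) h3
  exact (hωw ▸ hηw : η ⤳ ω').trans (hω' z'' hfz'')

theorem denseRange_closedPoints_of_surjective_closedPoints [JacobsonSpace Y] (f : X ⟶ Y)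
    (hsurj : ∀ y : Y, IsClosed ({y} : Set Y) → ∃ x, f x = y) : closure (Set.range f) = Set.univ := by
  refine Set.univ_subset_iff.1 ?_
  rw [← closure_closedPoints]
  exact closure_mono fun y hy => hsurj y hy

/-- Exactly one component dominates. -/
theorem existsUnique_dominant_component (qY : Y ⟶ Spec (CommRingCat.of K)) [LocallyOfFiniteType qY]
    [IrreducibleSpace Y] (f : X ⟶ Y) [LocallyOfFiniteType f] [QuasiCompact f]
    [AlgebraicGeometry.IsNoetherian X] {d : ℕ}
    (hfib : ∀ y : Y, IsClosed ({y} : Set Y) →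
      ∃ ω, f ω = y ∧ (∀ z, f z = y → ω ⤳ z) ∧ ptDim ω = d) :
    ∃ η : X, closure {η} ∈ irreducibleComponents X ∧ f η = genericPoint Y ∧
      ∀ η' : X, closure {η'} ∈ irreducibleComponents X → f η' = genericPoint Y → η' = η := by
  have : JacobsonSpace Y := LocallyOfFiniteType.jacobsonSpace qY
  have hd := denseRange_closedPoints_of_surjective_closedPoints f fun y hy =>
    (hfib y hy).imp fun _ h => h.1
  obtain ⟨x, hx⟩ : ∃ x, f x ⤳ genericPoint Y := by
    have h := hd.ge (Set.mem_univ (genericPoint Y))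
    obtain ⟨x, hx⟩ := GrothLib.LocNoeth.exists_specializes_of_mem_closure_range f h
    exact ⟨x, hx⟩
  obtain ⟨η, hη, hηx⟩ := GrothLib.LocNoeth.exists_maximal_specializes x
  have hfη : f η = genericPoint Y :=
    (((hηx.map f.continuous).trans hx).antisymm (genericPoint_specializes _)).eq
  refine ⟨η, hη, hfη, fun η' hη' hfη' => ?_⟩
  obtain ⟨W, hηW, hW⟩ := exists_open_of_component hη
  obtain ⟨W', hηW', hW'⟩ := exists_open_of_component hη'
  obtain ⟨V, U, e, hUW, -, hfV, -, -, -, hlow⟩ := exists_generic_opens qY f η W hηW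
  obtain ⟨V', U', e', hUW', -, hfV', -, -, -, hlow'⟩ := exists_generic_opens qY f η' W' hηW'
  obtain ⟨y, ⟨hyV, hyV'⟩, hy⟩ := nonempty_inter_closedPoints (Z := (V : Set Y) ∩ V')
    ⟨genericPoint Y, hfη ▸ hfV, hfη' ▸ hfV'⟩ (V.2.inter V'.2).isLocallyClosed
  obtain ⟨z, hzU, -, hfz, -⟩ := hlow y hyV (hfη ▸ genericPoint_specializes y)
  obtain ⟨z', hzU', -, hfz', -⟩ := hlow' y hyV' (hfη' ▸ genericPoint_specializes y)
  obtain ⟨ω, -, hω, -⟩ := hfib y hy
  have h1 : η ⤳ ω := hW ω ((hω z hfz).mem_open W.2 (hUW hzU))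
  have h2 : η' ⤳ ω := hW' ω ((hω z' hfz').mem_open W'.2 (hUW' hzU'))
  have h3 : η ⤳ η' := by
    refine hW η' (h2.mem_open W.2 ?_)
    exact (hω z hfz).mem_open W.2 (hUW hzU)
  have hsub : closure {η'} ⊆ closure ({η} : Set X) :=
    closure_minimal (Set.singleton_subset_iff.2 h3.mem_closure) isClosed_closure
  exact ((specializes_iff_closure_subset.2 (hη'.2 isIrreducible_singleton.closure hsub)).antisymm h3).eq

/-- If every closed fibre meets the dominant component, `X` is irreducible. -/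
theorem irreducibleSpace_and_dim (qY : Y ⟶ Spec (CommRingCat.of K)) [LocallyOfFiniteType qY]
    [IrreducibleSpace Y] (f : X ⟶ Y) [LocallyOfFiniteType f]
    [AlgebraicGeometry.IsNoetherian X] {d : ℕ}
    (hfib : ∀ y : Y, IsClosed ({y} : Set Y) →
      ∃ ω, f ω = y ∧ (∀ z, f z = y → ω ⤳ z) ∧ ptDim ω = d)
    {η : X} (hη : closure {η} ∈ irreducibleComponents X) (hfη : f η = genericPoint Y)
    (hall : ∀ x : X, η ⤳ x) :
    IrreducibleSpace X ∧ topologicalKrullDim X = (d : WithBot ℕ∞) + topologicalKrullDim Y := by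
  have huniv : closure ({η} : Set X) = Set.univ := Set.eq_univ_of_forall fun x => (hall x).mem_closure
  have hX : IrreducibleSpace X := by
    have h := (isIrreducible_singleton (x := η)).closure
    rw [huniv] at h
    exact { isPreirreducible_univ := h.2, toNonempty := ⟨η⟩ }
  refine ⟨hX, ?_⟩
  have h1 := (component_data qY f hfib hη).1
  rw [hfη, add_comm] at h1
  have h2 : ptDim η = topologicalKrullDim X := by
    refine le_antisymm (ptDim_le _) ?_
    rw [topologicalKrullDim_eq_iSup_ptDim]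
    exact iSup_le fun x => ptDim_mono (hall x)
  have h3 : ptDim (genericPoint Y) = topologicalKrullDim Y := by
    refine le_antisymm (ptDim_le _) ?_
    rw [topologicalKrullDim_eq_iSup_ptDim]
    exact iSup_le fun x => ptDim_mono (genericPoint_specializes x)
  rw [← h2, ← h3, h1]

/-- A closed map with irreducible closed fibres of constant dimension. -/
theorem irreducibleSpace_and_dim_of_isClosedMap (qY : Y ⟶ Spec (CommRingCat.of K)) [LocallyOfFiniteType qY]
    [IrreducibleSpace Y] (f : X ⟶ Y) [LocallyOfFiniteType f] [QuasiCompact f]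
    [AlgebraicGeometry.IsNoetherian X] {d : ℕ} (hcl : IsClosedMap f)
    (hfib : ∀ y : Y, IsClosed ({y} : Set Y) →
      ∃ ω, f ω = y ∧ (∀ z, f z = y → ω ⤳ z) ∧ ptDim ω = d) :
    IrreducibleSpace X ∧ topologicalKrullDim X = (d : WithBot ℕ∞) + topologicalKrullDim Y := by
  obtain ⟨η, hη, hfη, -⟩ := existsUnique_dominant_component qY f hfib
  have : JacobsonSpace X := LocallyOfFiniteType.jacobsonSpace (f ≫ qY)
  refine irreducibleSpace_and_dim qY f hfib hη hfη fun x => specializes_iff_mem_closure.2 ?_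
  have hcp : closedPoints X ⊆ closure {η} := fun z hz => by
    have hfz : IsClosed ({f z} : Set Y) := by simpa using hcl _ hz
    obtain ⟨z', hz', hfz'⟩ : f z ∈ f '' closure {η} := by
      have h1 : closure {f η} ⊆ f '' closure {η} :=
        closure_minimal (Set.singleton_subset_iff.2 ⟨η, subset_closure rfl, rfl⟩) (hcl _ isClosed_closure)
      exact h1 (hfη ▸ (genericPoint_specializes (f z)).mem_closure)
    exact ((component_data qY f hfib hη).2 (f z) hfz z' (specializes_iff_mem_closure.2 hz') hfz' z rfl).mem_closure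
  exact (closure_minimal hcp isClosed_closure) (closure_closedPoints (X := X) ▸ Set.mem_univ x)

end GrothLib.AffDom
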