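import Groth.Agent.Lib.AffDom.PointDim
import Groth.Prelude.Def_CurvBase

/-!
The algebra structure on residue fields of a scheme over a field, compared with `toRes`.
-/

universe u

open CategoryTheory AlgebraicGeometry

namespace GrothLib.AffDom

theorem toRes_eq_resMap (k : Type u) [Field k] (X : Scheme.{u}) [X.Over (Spec (CommRingCat.of k))]
    (x : X) : toRes (X ↘ Spec (CommRingCat.of k)) x = Curv2.resMap k X x := by
  set f := X ↘ Spec (CommRingCat.of k)
  have h : CommRingCat.ofHom (toRes f x) =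
      (Scheme.ΓSpecIso (CommRingCat.of k)).inv ≫ f.appTop ≫ X.presheaf.germ ⊤ x trivial ≫ X.residue x := by
    apply Spec.map_injective
    rw [SpecMap_toRes, Spec.map_comp, Spec.map_comp, Spec.map_comp, Category.assoc, Category.assoc,
      Scheme.fromSpecResidueField, ← Scheme.fromSpecStalk_toSpecΓ, Category.assoc, Category.assoc]
    congr 2
    rw [← Scheme.toSpecΓ_naturality_assoc, toSpecΓ_SpecMap_ΓSpecIso_inv, Category.comp_id]
  exact congrArg CommRingCat.Hom.hom h

theorem ptTrdeg_eq_trdeg (k : Type u) [Field k] (X : Scheme.{u}) [X.Over (Spec (CommRingCat.of k))]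
    (x : X) :
    letI := Curv2.resAlgebra k X x
    ptTrdeg (X ↘ Spec (CommRingCat.of k)) x = Algebra.trdeg k (X.residueField x) := by
  unfold ptTrdeg
  rw [toRes_eq_resMap]

theorem ptDim_eq_of_trdeg_eq (k : Type u) [Field k] (X : Scheme.{u})
    [X.Over (Spec (CommRingCat.of k))] [LocallyOfFiniteType (X ↘ Spec (CommRingCat.of k))] (x : X)
    (n : ℕ) (hn : letI := Curv2.resAlgebra k X x; Algebra.trdeg k (X.residueField x) = n) :
    ptDim x = n := by
  obtain ⟨m, hm, hm'⟩ := exists_dim_closure (X ↘ Spec (CommRingCat.of k)) x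
  rw [ptTrdeg_eq_trdeg, hn] at hm'
  rw [ptDim, hm, Nat.cast_injective hm']

theorem trdeg_eq_of_ptDim_eq (k : Type u) [Field k] (X : Scheme.{u})
    [X.Over (Spec (CommRingCat.of k))] [LocallyOfFiniteType (X ↘ Spec (CommRingCat.of k))] (x : X)
    (n : ℕ) (hn : ptDim x = n) :
    letI := Curv2.resAlgebra k X x
    Algebra.trdeg k (X.residueField x) = n := by
  obtain ⟨m, hm, hm'⟩ := exists_dim_closure (X ↘ Spec (CommRingCat.of k)) x
  rw [ptTrdeg_eq_trdeg] at hm'
  rw [hm', Nat.cast_inj]
  rw [ptDim, hm] at hn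
  exact_mod_cast hn

end GrothLib.AffDom
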