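import Groth.Agent.Lib.AffDom.Formula
import Mathlib.RingTheory.RingHom.Finite
import Mathlib.RingTheory.FiniteStability

/-!
Dimension of the tensor product of affine domains and the affine dimension theorem.
-/

universe u

open TensorProduct

namespace GrothLib.AffDom

variable (k : Type u) [Field k] (A B : Type u) [CommRing A] [CommRing B] [Algebra k A] [Algebra k B]
  [IsDomain A] [IsDomain B] [Algebra.FiniteType k A] [Algebra.FiniteType k B]

/-- Every component of a product of affine varieties has the sum of the dimensions. -/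
theorem ringKrullDim_quotient_minimalPrime_tensor (q : Ideal (B ⊗[k] A))
    (hq : q ∈ minimalPrimes (B ⊗[k] A)) :
    ringKrullDim ((B ⊗[k] A) ⧸ q) = ringKrullDim B + ringKrullDim A := by
  obtain ⟨n, g, hinj, hfin⟩ := exists_finite_inj_algHom_of_fg k A
  obtain ⟨m, g', hinj', hfin'⟩ := exists_finite_inj_algHom_of_fg k B
  let P := MvPolynomial (Fin n) k
  let Q := MvPolynomial (Fin m) k
  algebraize [g.toRingHom]
  have : IsScalarTower k P A := IsScalarTower.of_algebraMap_eq fun x => (g.commutes x).symm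
  have : Module.Finite P A := hfin
  have : FaithfulSMul P A := (faithfulSMul_iff_algebraMap_injective _ _).2 hinj
  have : Module.IsTorsionFree P A := inferInstance
  let φ₀ : B ⊗[k] P →ₐ[k] B ⊗[k] A := Algebra.TensorProduct.map (AlgHom.id k B) g
  obtain ⟨ι, hι, f, hf⟩ := GrothLib.Dim.exists_injective_linearMap_pi (P := P) (M := A)
  let f' : (B ⊗[k] A) →ₗ[k] B ⊗[k] (ι → P) := (f.restrictScalars k).lTensor B
  have hf' : Function.Injective f' := Module.Flat.lTensor_preserves_injective_linearMap _ hf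
  classical
  let π := TensorProduct.piRight k k B (fun _ : ι => P)
  have hlin : ∀ (p : B ⊗[k] P) (x : B ⊗[k] A), π (f' (φ₀ p * x)) = fun i => p * π (f' x) i := by
    intro p x
    induction p with
    | zero => simp only [map_zero, zero_mul]; rfl
    | add p₁ p₂ h₁ h₂ => simp only [map_add, add_mul, h₁, h₂]; rfl
    | tmul c p =>
      induction x with
      | zero => simp only [map_zero, Pi.zero_apply, mul_zero]; rfl
      | add x₁ x₂ h₁ h₂ => simp only [mul_add, map_add, h₁, h₂, Pi.add_apply]; rfl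
      | tmul d x =>
        funext i
        have hg : g p * x = p • x := (Algebra.smul_def p x).symm
        simp [φ₀, f', π, hg]
  have hnz₀ : ∀ p : B ⊗[k] P, p ≠ 0 → φ₀ p ∈ nonZeroDivisors (B ⊗[k] A) := by
    have : IsDomain (B ⊗[k] P) :=
      (MvPolynomial.algebraTensorAlgEquiv k B).toRingEquiv.toMulEquiv.isDomain _
    intro p hp
    refine mem_nonZeroDivisors_iff_right.2 fun x hx => ?_
    rw [mul_comm] at hx
    have h1 := congrArg π (congrArg f' hx)
    rw [hlin, map_zero, map_zero] at h1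
    have h2 : π (f' x) = 0 := funext fun i => (mul_eq_zero.1 (congrFun h1 i)).resolve_left hp
    exact hf' (by rw [map_zero]; exact π.injective (by rw [h2, map_zero]))
  let φ : Q ⊗[k] P →ₐ[k] B ⊗[k] A := Algebra.TensorProduct.map g' g
  have hnz : ∀ p : Q ⊗[k] P, p ≠ 0 → φ p ∈ nonZeroDivisors (B ⊗[k] A) := by
    intro p hp
    have e : φ p = φ₀ (Algebra.TensorProduct.map g' (AlgHom.id k P) p) := by
      induction p with
      | zero => simp
      | tmul a b => simp [φ, φ₀]
      | add a b ha hb =>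
        rcases eq_or_ne a 0 with rfl | ha'
        · rcases eq_or_ne b 0 with rfl | hb'
          · simp
          · simpa using hb hb'
        · rcases eq_or_ne b 0 with rfl | hb'
          · simpa using ha ha'
          · rw [map_add, map_add, map_add, ha ha', hb hb']
    rw [e]
    refine hnz₀ _ fun h => hp ?_
    exact Module.Flat.rTensor_preserves_injective_linearMap (M := P) g'.toLinearMap hinj'
      (h.trans (map_zero _).symm)
  have hφ : φ.toRingHom.Finite := RingHom.Finite.tensorProductMap (f := g') (g := g) hfin' hfin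
  algebraize [φ.toRingHom]
  have : Module.Finite (Q ⊗[k] P) (B ⊗[k] A) := hφ
  have : q.IsPrime := hq.1.1
  have : IsDomain (Q ⊗[k] P) :=
    (MvPolynomial.algebraTensorAlgEquiv k Q).toRingEquiv.toMulEquiv.isDomain _
  have hker : Function.Injective (algebraMap (Q ⊗[k] P) ((B ⊗[k] A) ⧸ q)) := by
    refine (injective_iff_map_eq_zero _).2 fun p hp => ?_
    by_contra hne
    exact notMem_nonZeroDivisors_of_mem_mem_minimalPrimes (Ideal.Quotient.eq_zero_iff_mem.1 hp) hq (hnz p hne)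
  algebraize [g'.toRingHom]
  have : Module.Finite Q B := hfin'
  rw [GrothLib.Dim.ringKrullDim_eq_of_isIntegral hker,
    ringKrullDim_eq_of_ringEquiv (MvPolynomial.algebraTensorAlgEquiv k Q).toRingEquiv,
    MvPolynomial.ringKrullDim_of_isNoetherianRing, MvPolynomial.ringKrullDim_of_isNoetherianRing,
    GrothLib.Dim.ringKrullDim_eq_of_isIntegral (R := P) hinj,
    GrothLib.Dim.ringKrullDim_eq_of_isIntegral (R := Q) hinj',
    MvPolynomial.ringKrullDim_of_isNoetherianRing, MvPolynomial.ringKrullDim_of_isNoetherianRing]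
  simp [ringKrullDim_eq_zero_of_field]

end GrothLib.AffDom

namespace GrothLib.AffDom

open TensorProduct MvPolynomial

variable {k : Type u} [Field k] {n : ℕ}

attribute [local instance 2000] CommSemiring.toSemiring CommRing.toCommSemiring

/-- The affine dimension theorem. -/
theorem ringKrullDim_add_le_of_mem_minimalPrimes_sup (p q P : Ideal (MvPolynomial (Fin n) k))
    [p.IsPrime] [q.IsPrime] (hP : P ∈ (p ⊔ q).minimalPrimes) :
    ringKrullDim (MvPolynomial (Fin n) k ⧸ p) + ringKrullDim (MvPolynomial (Fin n) k ⧸ q) ≤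
      ringKrullDim (MvPolynomial (Fin n) k ⧸ P) + (n : WithBot ℕ∞) := by
  classical
  have := hP.1.1
  have hp : p ≤ P := le_sup_left.trans hP.1.2
  have hq : q ≤ P := le_sup_right.trans hP.1.2
  let μ : (((MvPolynomial (Fin n) k) ⧸ p) ⊗[k] ((MvPolynomial (Fin n) k) ⧸ q)) →ₐ[k] (MvPolynomial (Fin n) k) ⧸ P := Algebra.TensorProduct.lift (Ideal.Quotient.factorₐ k hp)
    (Ideal.Quotient.factorₐ k hq) (fun _ _ => Commute.all _ _)
  have hμ : Function.Surjective μ := fun a => by
    obtain ⟨a, rfl⟩ := Ideal.Quotient.mk_surjective a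
    exact ⟨Ideal.Quotient.mk p a ⊗ₜ 1, (Algebra.TensorProduct.lift_tmul _ _ _ _ _).trans (by simp)⟩
  let Q' : Ideal (((MvPolynomial (Fin n) k) ⧸ p) ⊗[k] ((MvPolynomial (Fin n) k) ⧸ q)) := RingHom.ker μ.toRingHom
  have hQ' : Q'.IsPrime := RingHom.ker_isPrime _
  obtain ⟨Q, hQmin, hQle⟩ := Ideal.exists_minimalPrimes_le (R := (((MvPolynomial (Fin n) k) ⧸ p) ⊗[k] ((MvPolynomial (Fin n) k) ⧸ q))) (I := ⊥) (J := Q') (bot_le : ⊥ ≤ _)
  have := hQmin.1.1
  let D : Finset (((MvPolynomial (Fin n) k) ⧸ p) ⊗[k] ((MvPolynomial (Fin n) k) ⧸ q)) := Finset.univ.image fun i : Fin n =>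
    (Ideal.Quotient.mk p (X i) ⊗ₜ[k] (1 : (MvPolynomial (Fin n) k) ⧸ q) - (1 : (MvPolynomial (Fin n) k) ⧸ p) ⊗ₜ[k] Ideal.Quotient.mk q (X i))
  have hD : (D.card : ℕ) ≤ n := Finset.card_image_le.trans (by simp)
  let i₁ : (MvPolynomial (Fin n) k) →ₐ[k] (((MvPolynomial (Fin n) k) ⧸ p) ⊗[k] ((MvPolynomial (Fin n) k) ⧸ q)) :=
    (Algebra.TensorProduct.includeLeft : ((MvPolynomial (Fin n) k) ⧸ p) →ₐ[k] (((MvPolynomial (Fin n) k) ⧸ p) ⊗[k] ((MvPolynomial (Fin n) k) ⧸ q))).comp (Ideal.Quotient.mkₐ k p)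
  let i₂ : (MvPolynomial (Fin n) k) →ₐ[k] (((MvPolynomial (Fin n) k) ⧸ p) ⊗[k] ((MvPolynomial (Fin n) k) ⧸ q)) :=
    (Algebra.TensorProduct.includeRight : ((MvPolynomial (Fin n) k) ⧸ q) →ₐ[k] (((MvPolynomial (Fin n) k) ⧸ p) ⊗[k] ((MvPolynomial (Fin n) k) ⧸ q))).comp (Ideal.Quotient.mkₐ k q)
  have hmin : Q' ∈ Ideal.minimalPrimes (R := (((MvPolynomial (Fin n) k) ⧸ p) ⊗[k] ((MvPolynomial (Fin n) k) ⧸ q))) (Ideal.span (D : Set (((MvPolynomial (Fin n) k) ⧸ p) ⊗[k] ((MvPolynomial (Fin n) k) ⧸ q)))) := by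
    refine ⟨⟨hQ', Ideal.span_le.2 ?_⟩, fun R ⟨hR, hDR⟩ hRQ => ?_⟩
    · intro t ht
      obtain ⟨i, -, rfl⟩ := Finset.mem_image.1 ht
      show μ (_ - _) = 0
      rw [map_sub, Algebra.TensorProduct.lift_tmul, Algebra.TensorProduct.lift_tmul]
      simp
    · -- both copies of `(MvPolynomial (Fin n) k)` agree modulo `R`
      let π : (((MvPolynomial (Fin n) k) ⧸ p) ⊗[k] ((MvPolynomial (Fin n) k) ⧸ q)) →ₐ[k] (((MvPolynomial (Fin n) k) ⧸ p) ⊗[k] ((MvPolynomial (Fin n) k) ⧸ q)) ⧸ R := Ideal.Quotient.mkₐ k R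
      have heq : π.comp i₁ = π.comp i₂ := by
        refine MvPolynomial.algHom_ext fun i => ?_
        refine Ideal.Quotient.eq.2 (hDR (Ideal.subset_span ?_))
        exact Finset.mem_coe.2 (Finset.mem_image.2 ⟨i, Finset.mem_univ _, rfl⟩)
      let ρ := π.comp i₁
      have hker : p ⊔ q ≤ RingHom.ker ρ.toRingHom := by
        refine sup_le (fun a ha => ?_) (fun a ha => ?_)
        · show ρ a = 0
          simp [ρ, π, i₁, Ideal.Quotient.eq_zero_iff_mem.2 ha]
        · show ρ a = 0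
          rw [show ρ = π.comp i₂ from heq]
          simp [π, i₂, Ideal.Quotient.eq_zero_iff_mem.2 ha]
      have : (RingHom.ker ρ.toRingHom).IsPrime := RingHom.ker_isPrime _
      have hsurj : ∀ t : (((MvPolynomial (Fin n) k) ⧸ p) ⊗[k] ((MvPolynomial (Fin n) k) ⧸ q)), ∃ a : (MvPolynomial (Fin n) k), ρ a = Ideal.Quotient.mk R t := fun t => by
        induction t with
        | zero => exact ⟨0, by simp⟩
        | tmul a b =>
          obtain ⟨a, rfl⟩ := Ideal.Quotient.mk_surjective a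
          obtain ⟨b, rfl⟩ := Ideal.Quotient.mk_surjective b
          refine ⟨a * b, ?_⟩
          rw [map_mul]
          conv_lhs => arg 2; rw [show ρ = π.comp i₂ from heq]
          simp [ρ, π, i₁, i₂, ← map_mul]
        | add a b ha hb =>
          obtain ⟨a', ha⟩ := ha
          obtain ⟨b', hb⟩ := hb
          exact ⟨a' + b', by rw [map_add, map_add, ha, hb]⟩
      have hle : RingHom.ker ρ.toRingHom ≤ P := fun a ha => by
        have h1 : i₁ a ∈ R := Ideal.Quotient.eq_zero_iff_mem.1 ha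
        have h2 : μ (i₁ a) = 0 := hRQ h1
        simpa [i₁, μ, Ideal.Quotient.eq_zero_iff_mem] using h2
      have hge : P ≤ RingHom.ker ρ.toRingHom := hP.2 ⟨this, hker⟩ hle
      intro t ht
      obtain ⟨a, ha⟩ := hsurj t
      have hsub : t - i₁ a ∈ R := Ideal.Quotient.eq.1 ha.symm
      have h2 : μ (t - i₁ a) = 0 := hRQ hsub
      rw [map_sub, show μ t = 0 from ht, zero_sub, neg_eq_zero] at h2
      have h3 : a ∈ P := by simpa [i₁, μ, Ideal.Quotient.eq_zero_iff_mem] using h2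
      have h4 : i₁ a ∈ R := Ideal.Quotient.eq_zero_iff_mem.1 (hge h3)
      simpa using R.add_mem hsub h4
  have : Algebra.FiniteType k (((MvPolynomial (Fin n) k) ⧸ p) ⊗[k] ((MvPolynomial (Fin n) k) ⧸ q)) :=
    Algebra.FiniteType.trans (S := (MvPolynomial (Fin n) k) ⧸ p) inferInstance inferInstance
  have : IsNoetherianRing (((MvPolynomial (Fin n) k) ⧸ p) ⊗[k] ((MvPolynomial (Fin n) k) ⧸ q)) := Algebra.FiniteType.isNoetherianRing k (((MvPolynomial (Fin n) k) ⧸ p) ⊗[k] ((MvPolynomial (Fin n) k) ⧸ q))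
  have hht : Q'.height ≤ n :=
    (Ideal.height_le_card_of_mem_minimalPrimes_span_finset hmin).trans (by exact_mod_cast hD)
  have eμ : ringKrullDim ((((MvPolynomial (Fin n) k) ⧸ p) ⊗[k] ((MvPolynomial (Fin n) k) ⧸ q)) ⧸ Q') = ringKrullDim ((MvPolynomial (Fin n) k) ⧸ P) :=
    ringKrullDim_eq_of_ringEquiv (@RingHom.quotientKerEquivOfSurjective _ _ _ _ μ.toRingHom hμ)
  rw [← ringKrullDim_quotient_minimalPrime_tensor k ((MvPolynomial (Fin n) k) ⧸ q) ((MvPolynomial (Fin n) k) ⧸ p) Q hQmin,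
    ← eμ]
  have hP' : (Q'.map (Ideal.Quotient.mk Q)).IsPrime := Ideal.isPrime_map_quotientMk_of_isPrime hQle
  rw [← height_add_ringKrullDim_quotient k ((((MvPolynomial (Fin n) k) ⧸ p) ⊗[k] ((MvPolynomial (Fin n) k) ⧸ q)) ⧸ Q) (Q'.map (Ideal.Quotient.mk Q)),
    ringKrullDim_eq_of_ringEquiv (DoubleQuot.quotQuotEquivQuotOfLE hQle), add_comm]
  refine add_le_add le_rfl ?_
  have hle : (Q'.map (Ideal.Quotient.mk Q)).height ≤ Q'.height := by
    let x : PrimeSpectrum ((((MvPolynomial (Fin n) k) ⧸ p) ⊗[k] ((MvPolynomial (Fin n) k) ⧸ q)) ⧸ Q) := ⟨_, hP'⟩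
    let F : PrimeSpectrum ((((MvPolynomial (Fin n) k) ⧸ p) ⊗[k] ((MvPolynomial (Fin n) k) ⧸ q)) ⧸ Q) → PrimeSpectrum (((MvPolynomial (Fin n) k) ⧸ p) ⊗[k] ((MvPolynomial (Fin n) k) ⧸ q)) := PrimeSpectrum.comap (Ideal.Quotient.mk Q)
    have hF : StrictMono F := fun a b hab => by
      refine lt_of_le_of_ne (Ideal.comap_mono hab.le) fun he => hab.ne ?_
      exact PrimeSpectrum.ext (Ideal.comap_injective_of_surjective _ Ideal.Quotient.mk_surjective
        (congrArg PrimeSpectrum.asIdeal he))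
    have hFx : F x = ⟨Q', hQ'⟩ := PrimeSpectrum.ext (by
      show Ideal.comap _ (Q'.map _) = Q'
      rw [Ideal.comap_map_of_surjective _ Ideal.Quotient.mk_surjective, ← RingHom.ker_eq_comap_bot,
        Ideal.mk_ker, sup_eq_left.mpr hQle])
    show x.asIdeal.height ≤ (⟨Q', hQ'⟩ : PrimeSpectrum (((MvPolynomial (Fin n) k) ⧸ p) ⊗[k] ((MvPolynomial (Fin n) k) ⧸ q))).asIdeal.height
    rw [PrimeSpectrum.height_eq_orderHeight, PrimeSpectrum.height_eq_orderHeight, ← hFx]
    exact Order.height_le_height_apply_of_strictMono F hF x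
  exact_mod_cast hle.trans hht

end GrothLib.AffDom
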